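import Groth.Agent.BrauerClassLib.Antisym
import Groth.Agent.CSALib.MaximalField
import Mathlib

/-!
# Index and period of central simple algebras
-/

open scoped TensorProduct

universe u v w x y

namespace Groth.Agent.BrauerClassLib

variable {k : Type u} [Field k]

theorem isCentral_congr {A : Type v} [Ring A] [Algebra k A] {B : Type x} [Ring B] [Algebra k B]
    [Algebra.IsCentral k A] (e : A ≃ₐ[k] B) : Algebra.IsCentral k B :=
  ⟨fun z hz => by
    have h : e.symm z ∈ Subalgebra.center k A := Subalgebra.mem_center_iff.2 fun a =>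
      e.injective (by rw [map_mul, map_mul, e.apply_symm_apply, Subalgebra.mem_center_iff.1 hz (e a)])
    obtain ⟨c, hc⟩ := Algebra.mem_bot.1 (Algebra.IsCentral.out h)
    exact Algebra.mem_bot.2 ⟨c, by rw [← e.commutes c, hc, e.apply_symm_apply]⟩⟩

theorem splits_tensor {K : Type w} [Field K] [Algebra k K] {A : Type v} [Ring A] [Algebra k A]
    {B : Type x} [Ring B] [Algebra k B] (hA : Curves.Splits k A K) (hB : Curves.Splits k B K) :
    Curves.Splits k (A ⊗[k] B) K := by
  obtain ⟨n, hn, ⟨e⟩⟩ := hA
  obtain ⟨m, hm, ⟨f⟩⟩ := hB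
  exact ⟨n * m, mul_ne_zero hn hm, ⟨(distribAlg K A B).trans ((Algebra.TensorProduct.congr e f).trans
    ((matrixTensor n m).trans (Algebra.TensorProduct.lid K K).mapMatrix))⟩⟩

theorem csa_tensor (A : Type v) [Ring A] [Algebra k A] [Algebra.IsCentral k A] [IsSimpleRing A]
    [Module.Finite k A] (B : Type x) [Ring B] [Algebra k B] [Algebra.IsCentral k B] [IsSimpleRing B]
    [Module.Finite k B] : Algebra.IsCentral k (A ⊗[k] B) ∧ IsSimpleRing (A ⊗[k] B) := by
  obtain ⟨h1, h2, -⟩ := CSALib.csa_of_splits (splits_tensor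
    (CSALib.splits_of_isSepClosed (k := k) (A := A) (SeparableClosure k))
    (CSALib.splits_of_isSepClosed (k := k) (A := B) (SeparableClosure k)))
  exact ⟨h1, h2⟩

theorem csa_pi_fin : ∀ {n : ℕ} (A : Fin n → Type v) [∀ i, Ring (A i)] [∀ i, Algebra k (A i)]
    [∀ i, Algebra.IsCentral k (A i)] [∀ i, IsSimpleRing (A i)] [∀ i, Module.Finite k (A i)],
    Algebra.IsCentral k (⨂[k] i, A i) ∧ IsSimpleRing (⨂[k] i, A i) := by
  intro n
  induction n with
  | zero =>
    intro A _ _ _ _ _
    exact ⟨isCentral_congr (isEmptyAlg A).symm,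
      IsSimpleRing.of_ringEquiv (isEmptyAlg A).symm.toRingEquiv inferInstance⟩
  | succ n ih =>
    intro A _ _ _ _ _
    obtain ⟨h1, h2⟩ := ih fun i => A i.succ
    obtain ⟨h3, h4⟩ := csa_tensor (k := k) (A 0) (⨂[k] i : Fin n, A i.succ)
    exact ⟨isCentral_congr (succAlg A).symm,
      IsSimpleRing.of_ringEquiv (succAlg A).symm.toRingEquiv h4⟩

theorem csa_pi {ι : Type*} [Fintype ι] (A : ι → Type v) [∀ i, Ring (A i)] [∀ i, Algebra k (A i)]
    [∀ i, Algebra.IsCentral k (A i)] [∀ i, IsSimpleRing (A i)] [∀ i, Module.Finite k (A i)] :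
    Algebra.IsCentral k (⨂[k] i, A i) ∧ IsSimpleRing (⨂[k] i, A i) := by
  obtain ⟨h1, h2⟩ := csa_pi_fin (k := k) fun j => A ((Fintype.equivFin ι).symm j)
  exact ⟨isCentral_congr (reindexAlg A (Fintype.equivFin ι)).symm,
    IsSimpleRing.of_ringEquiv (reindexAlg A (Fintype.equivFin ι)).symm.toRingEquiv h2⟩

/-- A skew field in the class of a central simple algebra. -/
theorem exists_div (A : Type v) [Ring A] [Algebra k A] [Algebra.IsCentral k A] [IsSimpleRing A]
    [Module.Finite k A] :
    ∃ (m : ℕ) (D : Type v) (_ : DivisionRing D) (_ : Algebra k D),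
      0 < m ∧ Algebra.IsCentral k D ∧ Module.Finite k D ∧ Nonempty (A ≃ₐ[k] Matrix (Fin m) (Fin m) D) := by
  haveI : IsArtinianRing A := IsArtinianRing.of_finite k A
  obtain ⟨m, hm, D, _, _, hD, ⟨e⟩⟩ := IsSimpleRing.exists_algEquiv_matrix_divisionRing_finite k A
  refine ⟨m, D, inferInstance, inferInstance, Nat.pos_of_ne_zero (NeZero.ne m), ?_, hD, ⟨e⟩⟩
  haveI : Algebra.IsCentral k (Matrix (Fin m) (Fin m) D) := isCentral_congr e
  haveI : Algebra.IsCentral k (D ⊗[k] Matrix (Fin m) (Fin m) k) :=
    isCentral_congr (matrixEquivTensor (Fin m) k D)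
  exact Algebra.IsCentral.left_of_tensor_of_field k D (Matrix (Fin m) (Fin m) k)

/-- The degree of a central division algebra. -/
theorem exists_deg (D : Type v) [DivisionRing D] [Algebra k D] [Algebra.IsCentral k D] [Module.Finite k D] :
    ∃ d : ℕ, 0 < d ∧ Module.finrank k D = d ^ 2 := by
  obtain ⟨L, hc, hmax, -⟩ := CSALib.exists_separable_maximal (k := k) (D := D)
  refine ⟨Module.finrank k L, ?_, CSALib.finrank_eq_sq_of_maximal L hc hmax⟩
  exact Module.finrank_pos

theorem exists_index (A : Type v) [Ring A] [Algebra k A] [Algebra.IsCentral k A] [IsSimpleRing A]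
    [Module.Finite k A] : ∃ d, CSAGal.IsIndex k A d := by
  obtain ⟨m, D, _, _, hm, _, _, e⟩ := exists_div (k := k) A
  obtain ⟨d, hd, hD⟩ := exists_deg (k := k) D
  exact ⟨d, hd, m, D, inferInstance, inferInstance, hm, hD, e⟩

theorem cls_of_isIndex {A : Type v} [Ring A] [Algebra k A] [Algebra.IsCentral k A] [Module.Finite k A]
    {d : ℕ} (h : CSAGal.IsIndex k A d) :
    ∃ (D : Type v) (_ : DivisionRing D) (_ : Algebra k D) (_ : Algebra.IsCentral k D)
      (_ : Module.Finite k D), Module.finrank k D = d ^ 2 ∧ cls (k := k) A = cls D := by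
  obtain ⟨hd, m, D, _, _, hm, hD, ⟨e⟩⟩ := h
  haveI : Module.Finite k D := Module.finite_of_finrank_pos (by rw [hD]; exact pow_pos hd 2)
  haveI : NeZero m := ⟨hm.ne'⟩
  haveI : Algebra.IsCentral k (Matrix (Fin m) (Fin m) D) := isCentral_congr e
  haveI : Algebra.IsCentral k (D ⊗[k] Matrix (Fin m) (Fin m) k) :=
    isCentral_congr (matrixEquivTensor (Fin m) k D)
  exact ⟨D, inferInstance, inferInstance, Algebra.IsCentral.left_of_tensor_of_field k D (Matrix (Fin m) (Fin m) k),
    inferInstance, hD, cls_of_equiv_matrix hm.ne' e⟩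

theorem nonempty_algEquiv_of_cls_eq (D : Type v) [DivisionRing D] [Algebra k D] [Module.Finite k D]
    (D' : Type w) [DivisionRing D'] [Algebra k D'] [Algebra.IsCentral k D'] [Module.Finite k D']
    (h : cls (k := k) D = cls D') : Nonempty (D ≃ₐ[k] D') := by
  obtain ⟨a, b, ha, hb, ⟨e⟩⟩ := cls_eq_iff.1 h
  exact CSALib.nonempty_algEquiv_of_matrix ha e

theorem deg_eq_of_cls_eq {D : Type v} [DivisionRing D] [Algebra k D] [Module.Finite k D]
    {D' : Type w} [DivisionRing D'] [Algebra k D'] [Algebra.IsCentral k D'] [Module.Finite k D']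
    {d d' : ℕ} (hd : Module.finrank k D = d ^ 2) (hd' : Module.finrank k D' = d' ^ 2)
    (h : cls (k := k) D = cls D') : d = d' := by
  obtain ⟨e⟩ := nonempty_algEquiv_of_cls_eq D D' h
  exact Nat.pow_left_injective two_ne_zero (hd.symm.trans (e.toLinearEquiv.finrank_eq.trans hd'))

section Main

variable (K : Type w) [Field K] [Algebra k K] [FiniteDimensional k K] [IsGalois k K]
  {A : Type v} [Ring A] [Algebra k A]

/-- The index of a tensor power divides a binomial coefficient. -/
theorem dvd_choose_of_galois [Algebra.IsCentral k A] [IsSimpleRing A] [Module.Finite k A] {n : ℕ}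
    (hn : n ≠ 0) (φ : K ⊗[k] A ≃ₐ[K] Matrix (Fin n) (Fin n) K) (r : ℕ) {D : Type x} [DivisionRing D]
    [Algebra k D] [Module.Finite k D] {m d : ℕ} (e : CSAGal.tpow k A r ≃ₐ[k] Matrix (Fin m) (Fin m) D)
    (hd : Module.finrank k D = d ^ 2) : d ∣ n.choose r := by
  classical
  haveI : NeZero n := ⟨hn⟩
  obtain ⟨hB1, hB2⟩ := csa_pi_fin (k := k) fun _ : Fin r => A
  haveI : NeZero m := ⟨fun h => by
    subst h
    exact not_subsingleton (CSAGal.tpow k A r) e.toEquiv.subsingleton⟩
  let M := Matrix (Fin r → Fin n) (Fin r → Fin n) K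
  let φ₁ : A →ₐ[k] Matrix (Fin n) (Fin n) K :=
    (φ.toAlgHom.restrictScalars k).comp Algebra.TensorProduct.includeRight
  let Φ₀ : CSAGal.tpow k A r →ₐ[k] M := PiTensorProduct.liftAlgHom
    (((kron (K := K) (n := n) (r := r)).restrictScalars k).compLinearMap fun _ => φ₁.toLinearMap)
    (by
      show kron (fun i => φ₁ 1) = 1
      simp only [map_one]
      exact kron_one)
    (fun x y => by
      show kron (fun i => φ₁ (x i * y i)) = kron (fun i => φ₁ (x i)) * kron (fun i => φ₁ (y i))
      rw [← kron_mul]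
      congr 1
      funext i
      exact map_mul φ₁ _ _)
  have hΦ₀ : ∀ a : Fin r → A, Φ₀ (PiTensorProduct.tprod k a) = kron fun i => φ₁ (a i) := fun a => by
    simp [Φ₀]
  let Φ : K ⊗[k] CSAGal.tpow k A r →ₐ[K] M :=
    Algebra.TensorProduct.lift (Algebra.ofId K M) Φ₀ fun c b => Algebra.commutes c _
  have hΦ : ∀ c b, Φ (c ⊗ₜ[k] b) = c • Φ₀ b := fun c b => by
    rw [Algebra.TensorProduct.lift_tmul, Algebra.ofId_apply, ← Algebra.smul_def]
  have hA : Module.finrank k A = n * n := CSALib.finrank_of_splits φ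
  haveI : IsSimpleRing (K ⊗[k] CSAGal.tpow k A r) := CSALib.isSimpleRing_tensor' _ K
  haveI : Nontrivial M := inferInstance
  have hinj : Function.Injective Φ := Φ.toRingHom.injective
  have hdim : Module.finrank K (K ⊗[k] CSAGal.tpow k A r) = Module.finrank K M := by
    rw [Module.finrank_baseChange, finrank_piTensor, Module.finrank_matrix]
    simp [hA, mul_pow]
  have hsurj : Function.Surjective Φ :=
    (LinearMap.injective_iff_surjective_of_finrank_eq_finrank (f := Φ.toLinearMap) hdim).1 hinj
  -- Galois twist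
  have hconj : ∀ τ : K ≃ₐ[k] K, ∃ g h : M, g * h = 1 ∧ h * g = 1 ∧ g * asym = asym * g ∧
      ∀ t, (Φ t).map τ = g * Φ (Algebra.TensorProduct.map (τ : K →ₐ[k] K) (AlgHom.id k _) t) * h := by
    intro τ
    let f : K ⊗[k] A →ₐ[K] Matrix (Fin n) (Fin n) K :=
      Algebra.TensorProduct.lift (Algebra.ofId K _) ((AlgHom.mapMatrix (τ : K →ₐ[k] K)).comp φ₁)
        fun c b => Algebra.commutes c _
    haveI : IsSimpleRing (K ⊗[k] A) := CSALib.isSimpleRing_tensor' A K
    obtain ⟨g, hg⟩ := CSALib.exists_conj f φ.toAlgHom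
    have hg' : ∀ a, (φ₁ a).map τ = (g : Matrix (Fin n) (Fin n) K) * φ₁ a * (g⁻¹ : (Matrix (Fin n) (Fin n) K)ˣ) :=
      fun a => by
        have := hg ((1 : K) ⊗ₜ[k] a)
        rw [show f ((1 : K) ⊗ₜ[k] a) = (φ₁ a).map τ by
          simp only [f, Algebra.TensorProduct.lift_tmul, map_one, one_mul]; rfl] at this
        exact this
    refine ⟨kron fun _ => (g : Matrix (Fin n) (Fin n) K),
      kron fun _ => ((g⁻¹ : (Matrix (Fin n) (Fin n) K)ˣ) : Matrix (Fin n) (Fin n) K), ?_, ?_,
      kron_mul_asym _, fun t => ?_⟩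
    · rw [← kron_mul, ← kron_one]; congr 1; funext i; exact Units.mul_inv g
    · rw [← kron_mul, ← kron_one]; congr 1; funext i; exact Units.inv_mul g
    induction t using TensorProduct.induction_on with
    | zero => simp
    | add p q hp hq => rw [map_add, Matrix.map_add _ (map_add τ), hp, hq, map_add, map_add, mul_add, add_mul]
    | tmul c b =>
      rw [Algebra.TensorProduct.map_tmul, hΦ, hΦ, AlgHom.id_apply]
      induction b using PiTensorProduct.induction_on with
      | add p q hp hq =>
        rw [map_add, smul_add, Matrix.map_add _ (map_add τ), hp, hq, smul_add, mul_add, add_mul]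
      | smul_tprod q a =>
        rw [map_smul, hΦ₀]
        have hm : (kron fun i => φ₁ (a i) : M).map τ =
            (kron fun _ => (g : Matrix (Fin n) (Fin n) K)) * (kron fun i => φ₁ (a i)) *
              kron fun _ => ((g⁻¹ : (Matrix (Fin n) (Fin n) K)ˣ) : Matrix (Fin n) (Fin n) K) := by
          rw [← kron_mul, ← kron_mul]
          refine (kron_map (τ : K →+* K) _).trans ?_
          congr 1
          funext i
          exact hg' (a i)
        rw [show (c • q • (kron fun i => φ₁ (a i)) : M).map τ = τ c • q • (kron fun i => φ₁ (a i) : M).map τ by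
          ext I J; simp only [Matrix.map_apply, Matrix.smul_apply, smul_eq_mul, map_mul, map_smul], hm]
        show τ c • q • _ = _
        simp only [mul_smul_comm, smul_mul_assoc]
        rfl
  obtain ⟨t, ht⟩ := hsurj (asym (K := K) (n := n) (r := r))
  obtain ⟨t₀, rfl⟩ : ∃ b, t = (1 : K) ⊗ₜ[k] b := by
    letI := CSAGal.tensorAction k K (CSAGal.tpow k A r)
    refine CSADescent.exists_eq_one_tmul_of_fixed t fun τ => hinj ?_
    obtain ⟨g, h, hgh, hhg, hs, hmap⟩ := hconj τ
    rw [CSAGal.smul_eq_map]
    have h1 := hmap t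
    rw [ht, show (asym : M).map τ = asym from asym_map (τ : K →+* K)] at h1
    rw [ht]
    have key : ∀ X : M, asym = g * X * h → X = asym := fun X hX => by
      calc X = h * g * X * (h * g) := by rw [hhg, one_mul, mul_one]
        _ = h * (g * X * h) * g := by simp only [mul_assoc]
        _ = h * asym * g := by rw [← hX]
        _ = asym := by rw [mul_assoc, ← hs, ← mul_assoc, hhg, one_mul]
    exact key _ h1
  -- the left ideal generated by the antisymmetrizer
  let f : CSAGal.tpow k A r →ₗ[k] CSAGal.tpow k A r := LinearMap.mulRight k t₀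
  let W := LinearMap.range f
  have hW : Module.finrank k W = n ^ r * n.choose r := by
    let eΦ := LinearEquiv.ofBijective Φ.toLinearMap ⟨hinj, hsurj⟩
    have hcomm : eΦ.toLinearMap.comp (f.baseChange K) = (LinearMap.mulRight K (asym : M)).comp eΦ.toLinearMap := by
      refine TensorProduct.AlgebraTensorModule.ext fun c b => ?_
      show Φ (c ⊗ₜ[k] (b * t₀)) = Φ (c ⊗ₜ[k] b) * asym
      rw [← ht, ← map_mul, Algebra.TensorProduct.tmul_mul_tmul, mul_one]
    have hr : (LinearMap.range (f.baseChange K)).map eΦ.toLinearMap = LinearMap.range (LinearMap.mulRight K (asym : M)) := by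
      rw [← LinearMap.range_comp, hcomm, LinearMap.range_comp, LinearEquiv.range, Submodule.map_top]
    have h2 : LinearMap.range (f.baseChange K) = LinearMap.range (W.subtype.baseChange K) := by
      have h3 : f.baseChange K = (W.subtype.baseChange K).comp (f.rangeRestrict.baseChange K) := by
        rw [← LinearMap.baseChange_comp]; rfl
      rw [h3]
      refine LinearMap.range_comp_of_range_eq_top _ (LinearMap.range_eq_top.2 ?_)
      exact LinearMap.lTensor_surjective K f.surjective_rangeRestrict
    have h4 : Function.Injective (W.subtype.baseChange K) :=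
      Module.Flat.lTensor_preserves_injective_linearMap (M := K) W.subtype W.injective_subtype
    rw [← finrank_range_mulRight_asym K n r, ← hr, LinearEquiv.finrank_map_eq eΦ, h2,
      LinearMap.finrank_range_of_inj h4, Module.finrank_baseChange]
  let ρ₀ : CSAGal.tpow k A r →ₐ[k] Module.End k W :=
    AlgHom.ofLinearMap
      { toFun := fun b => (LinearMap.mulLeft k b).restrict (p := W) (q := W) (by
          rintro _ ⟨z, rfl⟩; exact ⟨b * z, mul_assoc b z t₀⟩)
        map_add' := fun a b => LinearMap.ext fun z => Subtype.ext (add_mul a b _)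
        map_smul' := fun c a => LinearMap.ext fun z => Subtype.ext (smul_mul_assoc c a _) }
      (LinearMap.ext fun z => Subtype.ext (one_mul _))
      (fun a b => LinearMap.ext fun z => Subtype.ext (mul_assoc a b _))
  have hdvd := mul_sq_dvd_finrank (ρ₀.comp e.symm.toAlgHom)
  rw [hW, hd] at hdvd
  have hmd : m * d = n ^ r := by
    have h := e.toLinearEquiv.finrank_eq
    rw [finrank_piTensor, Module.finrank_matrix, hd] at h
    simp only [hA, Finset.prod_const, Finset.card_univ, Fintype.card_fin, mul_pow] at h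
    refine Nat.mul_self_inj.1 ?_
    rw [h]; ring
  rw [← hmd, pow_two, ← mul_assoc] at hdvd
  exact Nat.dvd_of_mul_dvd_mul_left (hmd ▸ pow_pos (Nat.pos_of_ne_zero hn) r) hdvd

end Main

theorem deg_eq_one_of_dvd {D : Type v} [DivisionRing D] [Algebra k D] [Module.Finite k D] {d : ℕ}
    (hd : Module.finrank k D = d ^ 2) (h1 : d = 1) : cls (k := k) D = 1 := by
  subst h1
  have h : Function.Bijective (Algebra.linearMap k D) :=
    ⟨(algebraMap k D).injective, (LinearMap.injective_iff_surjective_of_finrank_eq_finrank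
      (by rw [hd, Module.finrank_self, one_pow])).1 (algebraMap k D).injective⟩
  exact (cls_congr (AlgEquiv.ofBijective (Algebra.ofId k D) h)).symm

theorem cls_pow_eq_one_of_galois {A : Type v} [Ring A] [Algebra k A] [Algebra.IsCentral k A] [IsSimpleRing A]
    [Module.Finite k A] (K : Type w) [Field K] [Algebra k K] [FiniteDimensional k K] [IsGalois k K] {n : ℕ}
    (hn : n ≠ 0) (φ : K ⊗[k] A ≃ₐ[K] Matrix (Fin n) (Fin n) K) : cls (k := k) A ^ n = 1 := by
  obtain ⟨h1, h2⟩ := csa_pi_fin (k := k) fun _ : Fin n => A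
  obtain ⟨m, D, _, _, hm, _, _, ⟨e⟩⟩ := exists_div (k := k) (CSAGal.tpow k A n)
  obtain ⟨d, hd0, hd⟩ := exists_deg (k := k) D
  have := dvd_choose_of_galois K hn φ n e hd
  rw [Nat.choose_self, Nat.dvd_one] at this
  rw [← cls_tpow, cls_of_equiv_matrix hm.ne' e, deg_eq_one_of_dvd hd this]

theorem cls_pow_deg {D : Type v} [DivisionRing D] [Algebra k D] [Algebra.IsCentral k D] [Module.Finite k D]
    {d : ℕ} (hd : Module.finrank k D = d ^ 2) : cls (k := k) D ^ d = 1 := by
  obtain ⟨E, _, _, n, hn, ⟨φ⟩⟩ := CSALib.exists_galois_splitting (k := k) (A := D)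
  have h : n = d := by
    have := CSALib.finrank_of_splits φ
    rw [hd, pow_two] at this
    exact (Nat.mul_self_inj.1 this).symm
  subst h
  exact cls_pow_eq_one_of_galois E hn φ

/-- The index of a tensor power divides a binomial coefficient. -/
theorem dvd_choose {D : Type v} [DivisionRing D] [Algebra k D] [Algebra.IsCentral k D] [Module.Finite k D]
    {d : ℕ} (hd : Module.finrank k D = d ^ 2) (r : ℕ) {D' : Type w} [DivisionRing D'] [Algebra k D']
    [Algebra.IsCentral k D'] [Module.Finite k D'] {d' : ℕ} (hd' : Module.finrank k D' = d' ^ 2)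
    (h : cls (k := k) D' = cls D ^ r) : d' ∣ d.choose r := by
  obtain ⟨E, _, _, n, hn, ⟨φ⟩⟩ := CSALib.exists_galois_splitting (k := k) (A := D)
  obtain rfl : n = d := by
    have := CSALib.finrank_of_splits φ
    rw [hd, pow_two] at this
    exact (Nat.mul_self_inj.1 this).symm
  obtain ⟨h1, h2⟩ := csa_pi_fin (k := k) fun _ : Fin r => D
  obtain ⟨m, D₁, _, _, hm, _, _, ⟨e⟩⟩ := exists_div (k := k) (CSAGal.tpow k D r)
  obtain ⟨d₁, -, hd₁⟩ := exists_deg (k := k) D₁
  have := deg_eq_of_cls_eq hd' hd₁ (h.trans ((cls_tpow D r).symm.trans (cls_of_equiv_matrix hm.ne' e)))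
  subst this
  exact dvd_choose_of_galois E hn φ r e hd₁

section Splitting

variable (K : Type w) [Field K] [Algebra k K] {A : Type v} [Ring A] [Algebra k A]

theorem splits_self_iff : Curves.Splits K (K ⊗[k] A) K ↔ Curves.Splits k A K :=
  ⟨fun ⟨n, hn, ⟨e⟩⟩ => ⟨n, hn, ⟨(Algebra.TensorProduct.lid K (K ⊗[k] A)).symm.trans e⟩⟩,
    fun ⟨n, hn, ⟨e⟩⟩ => ⟨n, hn, ⟨(Algebra.TensorProduct.lid K (K ⊗[k] A)).trans e⟩⟩⟩

theorem bc_cls_eq_one_iff [Algebra.IsCentral k A] [IsSimpleRing A] [Module.Finite k A] :
    bc K (cls (k := k) A) = 1 ↔ Curves.Splits k A K := by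
  haveI := CSALib.isCentral_baseChange (k := k) (A := A) K
  haveI : IsSimpleRing (K ⊗[k] A) := CSALib.isSimpleRing_tensor' A K
  rw [bc_cls, ← splits_iff_cls, splits_self_iff]

end Splitting

/-- Transitivity of base change of algebras. -/
noncomputable def cancelAlg (A : Type v) [Ring A] [Algebra k A] (K : Type w) [Field K] [Algebra k K]
    (L : Type x) [Field L] [Algebra k L] [Algebra K L] [IsScalarTower k K L] :
    L ⊗[K] (K ⊗[k] A) ≃ₐ[L] L ⊗[k] A :=
  AlgEquiv.ofLinearEquiv (TensorProduct.AlgebraTensorModule.cancelBaseChange k K L L A)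
    (by simp [Algebra.TensorProduct.one_def])
    (by
      intro a b
      induction a using TensorProduct.induction_on with
      | zero => simp
      | add p q hp hq => simp only [add_mul, map_add, hp, hq]
      | tmul l z =>
        induction b using TensorProduct.induction_on with
        | zero => simp
        | add p q hp hq => simp only [mul_add, map_add, hp, hq]
        | tmul l' z' =>
          induction z using TensorProduct.induction_on with
          | zero => simp
          | add p q hp hq => simp only [TensorProduct.tmul_add, add_mul, map_add, hp, hq]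
          | tmul c a =>
            induction z' using TensorProduct.induction_on with
            | zero => simp
            | add p q hp hq => simp only [TensorProduct.tmul_add, mul_add, map_add, hp, hq]
            | tmul c' a' => simp [Algebra.TensorProduct.tmul_mul_tmul, Algebra.smul_def]; ring_nf)

/-- A splitting field of degree equal to the index. -/
theorem exists_splitting_field {D : Type v} [DivisionRing D] [Algebra k D] [Algebra.IsCentral k D]
    [Module.Finite k D] {d : ℕ} (hd : Module.finrank k D = d ^ 2) :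
    ∃ (L : Type v) (_ : Field L) (_ : Algebra k L), Module.Finite k L ∧ Algebra.IsSeparable k L ∧
      Module.finrank k L = d ∧ Curves.Splits k D L := by
  obtain ⟨L, hc, hmax, hsep⟩ := CSALib.exists_separable_maximal (k := k) (D := D)
  haveI := CSALib.isSimpleRing_subalgebra L
  letI : CommRing L := { (inferInstance : Ring L) with mul_comm := fun a b => Subtype.ext (hc a.1 a.2 b.1 b.2) }
  letI : Field L := fieldOfFiniteDimensional k L
  have h := CSALib.finrank_eq_sq_of_maximal L hc hmax
  refine ⟨L, inferInstance, inferInstance, inferInstance, hsep, ?_, ?_⟩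
  · exact Nat.pow_left_injective two_ne_zero (h.symm.trans hd)
  · exact CSALib.splits_of_algHom L L.val h

/-- The index of a power of a class divides the index. -/
theorem dvd_of_cls_eq_pow {D : Type v} [DivisionRing D] [Algebra k D] [Algebra.IsCentral k D]
    [Module.Finite k D] {d : ℕ} (hd : Module.finrank k D = d ^ 2) {D' : Type w} [DivisionRing D']
    [Algebra k D'] [Algebra.IsCentral k D'] [Module.Finite k D'] {d' : ℕ}
    (hd' : Module.finrank k D' = d' ^ 2) {r : ℕ} (h : cls (k := k) D' = cls D ^ r) : d' ∣ d := by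
  obtain ⟨L, _, _, _, -, hL, hs⟩ := exists_splitting_field hd
  rw [← hL]
  refine CSALib.dvd_finrank_of_splits L hd' ((bc_cls_eq_one_iff L).1 ?_)
  rw [h, map_pow, (bc_cls_eq_one_iff L).2 hs, one_pow]

/-- The index after extension divides the index. -/
theorem bc_dvd (K : Type w) [Field K] [Algebra k K] {D : Type v} [DivisionRing D] [Algebra k D]
    [Algebra.IsCentral k D] [Module.Finite k D] {d : ℕ} (hd : Module.finrank k D = d ^ 2) {D' : Type x}
    [DivisionRing D'] [Algebra K D'] [Algebra.IsCentral K D'] [Module.Finite K D'] {d' : ℕ}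
    (hd' : Module.finrank K D' = d' ^ 2) (h : cls (k := K) D' = bc K (cls (k := k) D)) : d' ∣ d := by
  haveI := CSALib.isCentral_baseChange (k := k) (A := D) K
  haveI : IsSimpleRing (K ⊗[k] D) := CSALib.isSimpleRing_tensor' D K
  obtain ⟨m, D₁, _, _, hm, _, _, ⟨e⟩⟩ := exists_div (k := K) (K ⊗[k] D)
  obtain ⟨d₁, -, hd₁⟩ := exists_deg (k := K) D₁
  have := deg_eq_of_cls_eq hd' hd₁ (h.trans ((bc_cls K D).trans (cls_of_equiv_matrix hm.ne' e)))
  subst this
  have he := e.toLinearEquiv.finrank_eq
  rw [Module.finrank_baseChange, Module.finrank_matrix, hd, hd₁] at he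
  simp only [Fintype.card_fin] at he
  exact ⟨m, Nat.pow_left_injective two_ne_zero (he.trans (by ring))⟩

/-- The index divides degree times index after extension. -/
theorem dvd_finrank_mul_bc (K : Type w) [Field K] [Algebra k K] [FiniteDimensional k K]
    {D : Type v} [DivisionRing D] [Algebra k D]
    [Algebra.IsCentral k D] [Module.Finite k D] {d : ℕ} (hd : Module.finrank k D = d ^ 2) {D' : Type x}
    [DivisionRing D'] [Algebra K D'] [Algebra.IsCentral K D'] [Module.Finite K D'] {d' : ℕ}
    (hd' : Module.finrank K D' = d' ^ 2) (h : cls (k := K) D' = bc K (cls (k := k) D)) :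
    d ∣ Module.finrank k K * d' := by
  obtain ⟨L, _, _, _, -, hL, hs⟩ := exists_splitting_field hd'
  letI : Algebra k L := ((algebraMap K L).comp (algebraMap k K)).toAlgebra
  haveI : IsScalarTower k K L := IsScalarTower.of_algebraMap_eq fun _ => rfl
  haveI : FiniteDimensional k L := Module.Finite.trans K L
  rw [← hL, Module.finrank_mul_finrank k K L]
  refine CSALib.dvd_finrank_of_splits L hd ((bc_cls_eq_one_iff L).1 ?_)
  have h1 : bc L (bc K (cls (k := k) D)) = bc L (cls (k := k) D) := by
    rw [bc_cls, bc_cls, bc_cls]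
    exact cls_congr (cancelAlg D K L)
  rw [← h1, ← h, (bc_cls_eq_one_iff L).2 hs]

/-- Primes dividing the index divide the period. -/
theorem prime_dvd_of_cls_pow {D : Type v} [DivisionRing D] [Algebra k D] [Algebra.IsCentral k D]
    [Module.Finite k D] {d : ℕ} (hd : Module.finrank k D = d ^ 2) {e : ℕ} (he : cls (k := k) D ^ e = 1)
    {p : ℕ} (hp : p.Prime) (hpd : p ∣ d) : p ∣ e := by
  by_contra hpe
  haveI := Fact.mk hp
  obtain ⟨E, _, _, hsplit⟩ := CSALib.exists_galois_splitting (k := k) (A := D)
  let P : Sylow p (E ≃ₐ[k] E) := default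
  let F : IntermediateField k E := IntermediateField.fixedField P.1
  haveI : IsGalois F E := inferInstance
  haveI := CSALib.isCentral_baseChange (k := k) (A := D) F
  haveI : IsSimpleRing (F ⊗[k] D) := CSALib.isSimpleRing_tensor' D F
  obtain ⟨m, D', _, _, hm, _, _, ⟨eD⟩⟩ := exists_div (k := F) (F ⊗[k] D)
  obtain ⟨d', -, hd'⟩ := exists_deg (k := F) D'
  have hc : cls (k := F) D' = bc F (cls (k := k) D) :=
    (cls_of_equiv_matrix hm.ne' eD).symm.trans (bc_cls F D).symm
  have hE : Curves.Splits F D' E := (bc_cls_eq_one_iff E).1 (by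
    rw [hc, ← (bc_cls_eq_one_iff E).2 hsplit, bc_cls, bc_cls, bc_cls]
    exact cls_congr (cancelAlg D F E))
  have hd'1 : d' ∣ Module.finrank F E := CSALib.dvd_finrank_of_splits E hd' hE
  have hpow : cls (k := F) D' ^ e = 1 := by rw [hc, ← map_pow, he, map_one]
  have hdeg : Module.finrank F E = Nat.card P.1 := IntermediateField.finrank_fixedField_eq_card P.1
  obtain ⟨a, ha⟩ := P.2.exists_card_eq
  rw [hdeg, ha] at hd'1
  have hcop : Nat.Coprime d' e :=
    Nat.Coprime.coprime_dvd_left hd'1 (((hp.coprime_iff_not_dvd).2 hpe).pow_left a)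
  have hone : cls (k := F) D' = 1 := by
    have : cls (k := F) D' ^ Nat.gcd d' e = 1 := pow_gcd_eq_one.2 ⟨cls_pow_deg hd', hpow⟩
    rwa [hcop.gcd_eq_one, pow_one] at this
  have hs : Curves.Splits k D F := (bc_cls_eq_one_iff F).1 (hc ▸ hone)
  have hdF : d ∣ Module.finrank k F := CSALib.dvd_finrank_of_splits F hd hs
  have hindex : P.1.index = Module.finrank k F := by
    have h1 := Module.finrank_mul_finrank k F E
    rw [hdeg, ← IsGalois.card_aut_eq_finrank k E, ← P.1.card_mul_index, mul_comm (Nat.card P.1)] at h1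
    exact (Nat.eq_of_mul_eq_mul_right Nat.card_pos h1).symm
  exact P.not_dvd_index (hindex ▸ hpd.trans hdF)

end Groth.Agent.BrauerClassLib
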