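import Groth.Agent.BrauerClassLib.Index
import Mathlib

/-!
# The period as an order and the primary decomposition
-/

open scoped TensorProduct

universe u v w x

namespace Groth.Agent.BrauerClassLib

variable {k : Type u} [Field k]

theorem splits_tpow_iff (A : Type v) [Ring A] [Algebra k A] [Algebra.IsCentral k A] [IsSimpleRing A]
    [Module.Finite k A] (e : ℕ) :
    Curves.Splits k (CSAGal.tpow k A e) k ↔ cls (k := k) A ^ e = 1 := by
  obtain ⟨h1, h2⟩ := csa_pi_fin (k := k) fun _ : Fin e => A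
  rw [splits_iff_cls, cls_tpow]

theorem isPeriod_iff (A : Type v) [Ring A] [Algebra k A] [Algebra.IsCentral k A] [IsSimpleRing A]
    [Module.Finite k A] (e : ℕ) : CSAGal.IsPeriod k A e ↔ 0 < e ∧ orderOf (cls (k := k) A) = e := by
  constructor
  · rintro ⟨h0, h1, h2⟩
    exact ⟨h0, (orderOf_eq_iff h0).2 ⟨(splits_tpow_iff A e).1 h1,
      fun m hm hm0 h => h2 m hm0 hm ((splits_tpow_iff A m).2 h)⟩⟩
  · rintro ⟨h0, h⟩
    obtain ⟨h1, h2⟩ := (orderOf_eq_iff h0).1 h
    exact ⟨h0, (splits_tpow_iff A e).2 h1, fun m hm0 hm h => h2 m hm hm0 ((splits_tpow_iff A m).1 h)⟩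

theorem isIndex_dvd {A : Type v} [Ring A] [Algebra k A] [Algebra.IsCentral k A] [IsSimpleRing A]
    [Module.Finite k A] {B : Type w} [Ring B] [Algebra k B] [Algebra.IsCentral k B] [IsSimpleRing B]
    [Module.Finite k B] {d d' r : ℕ} (hd : CSAGal.IsIndex k A d) (hd' : CSAGal.IsIndex k B d')
    (h : cls (k := k) B = cls A ^ r) : d' ∣ d := by
  obtain ⟨D, _, _, _, _, hD, hc⟩ := cls_of_isIndex hd
  obtain ⟨D', _, _, _, _, hD', hc'⟩ := cls_of_isIndex hd'
  exact dvd_of_cls_eq_pow hD hD' (by rw [← hc', ← hc, h])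

theorem bc_index {A : Type v} [Ring A] [Algebra k A] [Algebra.IsCentral k A] [IsSimpleRing A]
    [Module.Finite k A] (K : Type w) [Field K] [Algebra k K] [FiniteDimensional k K] {d d' : ℕ}
    (hd : CSAGal.IsIndex k A d) (hd' : CSAGal.IsIndex K (K ⊗[k] A) d') :
    d' ∣ d ∧ d ∣ Module.finrank k K * d' := by
  haveI := CSALib.isCentral_baseChange (k := k) (A := A) K
  obtain ⟨D, _, _, _, _, hD, hc⟩ := cls_of_isIndex hd
  obtain ⟨D', _, _, _, _, hD', hc'⟩ := cls_of_isIndex hd'
  have h : cls (k := K) D' = bc K (cls (k := k) D) := by rw [← hc', ← bc_cls, hc]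
  exact ⟨bc_dvd K hD hD' h, dvd_finrank_mul_bc K hD hD' h⟩

theorem prime_dvd {A : Type v} [Ring A] [Algebra k A] [Algebra.IsCentral k A] [IsSimpleRing A]
    [Module.Finite k A] {d e : ℕ} (hd : CSAGal.IsIndex k A d) (he : cls (k := k) A ^ e = 1)
    {p : ℕ} (hp : p.Prime) (hpd : p ∣ d) : p ∣ e := by
  obtain ⟨D, _, _, _, _, hD, hc⟩ := cls_of_isIndex hd
  exact prime_dvd_of_cls_pow hD (hc ▸ he) hp hpd

theorem orderOf_dvd_index {A : Type v} [Ring A] [Algebra k A] [Algebra.IsCentral k A] [IsSimpleRing A]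
    [Module.Finite k A] {d : ℕ} (hd : CSAGal.IsIndex k A d) : orderOf (cls (k := k) A) ∣ d := by
  obtain ⟨D, _, _, _, _, hD, hc⟩ := cls_of_isIndex hd
  rw [hc]
  exact orderOf_dvd_of_pow_eq_one (cls_pow_deg hD)

theorem pow_prime_dvd {d p : ℕ} (hp : p.Prime) (hd : d ≠ 0) {a : ℕ}
    (h : a ∣ d) (h' : ∀ q : ℕ, q.Prime → q ∣ a → q = p) : a ∣ p ^ d.factorization p := by
  have ha : a ≠ 0 := fun h0 => hd (by simpa [h0] using h)
  refine (Nat.factorization_le_iff_dvd ha (pow_ne_zero _ hp.ne_zero)).1 fun q => ?_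
  rw [hp.factorization_pow]
  by_cases hq : q = p
  · subst hq
    rw [Finsupp.single_eq_same]
    exact (Nat.factorization_le_iff_dvd ha hd).2 h q
  · rw [Finsupp.single_eq_of_ne (Ne.symm (Ne.symm hq))]
    by_cases hqp : q.Prime
    · exact le_of_eq (Nat.factorization_eq_zero_of_not_dvd fun hdiv => hq (h' q hqp hdiv))
    · exact le_of_eq (Nat.factorization_eq_zero_of_not_prime a hqp)

theorem exists_exponents {d : ℕ} (hd : d ≠ 0) :
    ∃ c : d.primeFactors → ℕ, (∀ p, c p ≡ 1 [MOD p.1 ^ d.factorization p.1]) ∧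
      (∀ p q : d.primeFactors, q ≠ p → q.1 ^ d.factorization q.1 ∣ c p) ∧
      (∑ p, c p) ≡ 1 [MOD d] := by
  classical
  have h1 : ∀ p : d.primeFactors, ∃ c, c ≡ 1 [MOD p.1 ^ d.factorization p.1] ∧
      (d / p.1 ^ d.factorization p.1) ∣ c := fun p => by
    have hp := Nat.prime_of_mem_primeFactors p.2
    have hcop : Nat.Coprime (p.1 ^ d.factorization p.1) (d / p.1 ^ d.factorization p.1) :=
      (Nat.coprime_ordCompl hp hd).pow_left _
    obtain ⟨c, hc1, hc2⟩ := Nat.chineseRemainder hcop 1 0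
    exact ⟨c, hc1, (Nat.modEq_zero_iff_dvd).1 hc2⟩
  choose c hc1 hc2 using h1
  have hc3 : ∀ p q : d.primeFactors, q ≠ p → q.1 ^ d.factorization q.1 ∣ c p := fun p q hqp => by
    refine dvd_trans ?_ (hc2 p)
    have hcop : Nat.Coprime (q.1 ^ d.factorization q.1) (p.1 ^ d.factorization p.1) :=
      ((Nat.coprime_primes (Nat.prime_of_mem_primeFactors q.2) (Nat.prime_of_mem_primeFactors p.2)).2
        fun h => hqp (Subtype.ext h)).pow _ _
    refine hcop.dvd_of_dvd_mul_left ?_
    rw [Nat.ordProj_mul_ordCompl_eq_self]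
    exact Nat.ordProj_dvd d q.1
  refine ⟨c, hc1, hc3, ?_⟩
  by_cases hd1' : d = 1
  · subst hd1'; exact Nat.modEq_one
  refine ((Nat.modEq_iff_dvd' ?_).2 ?_).symm
  · by_contra hlt
    push Not at hlt
    have h0 : ∑ p, c p = 0 := by omega
    by_cases hd1 : d.primeFactors.Nonempty
    · obtain ⟨p, hp⟩ := hd1
      have := hc1 ⟨p, hp⟩
      rw [(Finset.sum_eq_zero_iff.1 h0) ⟨p, hp⟩ (Finset.mem_univ _)] at this
      have h2 : p ^ d.factorization p ∣ 1 := (Nat.modEq_zero_iff_dvd).1 this.symm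
      rw [Nat.dvd_one] at h2
      exact (Nat.prime_of_mem_primeFactors hp).ne_one (by
        rcases Nat.pow_eq_one.1 h2 with h | h
        · exact h
        · exact absurd h (((Nat.prime_of_mem_primeFactors hp).factorization_pos_of_dvd hd
            (Nat.dvd_of_mem_primeFactors hp)).ne'))
    · exact absurd h0 (by
        rw [Finset.not_nonempty_iff_eq_empty] at hd1
        intro _
        rcases Nat.primeFactors_eq_empty.1 hd1 with h | h
        · exact hd h
        · exact hd1' h)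
  · rw [Nat.dvd_iff_prime_pow_dvd_dvd]
    intro q i hq hqi
    rcases Nat.eq_zero_or_pos i with rfl | hi
    · simp
    have hqd : q ∈ d.primeFactors :=
      Nat.mem_primeFactors.2 ⟨hq, (dvd_pow_self q hi.ne').trans hqi, hd⟩
    have hi' : i ≤ d.factorization q := (hq.pow_dvd_iff_le_factorization hd).1 hqi
    have hsum : (∑ p, c p) ≡ 1 [MOD q ^ d.factorization q] := by
      rw [← Finset.add_sum_erase Finset.univ c (Finset.mem_univ ⟨q, hqd⟩)]
      have h0 : (∑ p ∈ Finset.univ.erase (⟨q, hqd⟩ : d.primeFactors), c p) ≡ 0 [MOD q ^ d.factorization q] :=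
        Nat.modEq_zero_iff_dvd.2 (Finset.dvd_sum fun p hp => hc3 p ⟨q, hqd⟩ (Finset.ne_of_mem_erase hp).symm)
      simpa using (hc1 ⟨q, hqd⟩).add h0
    refine dvd_trans (pow_dvd_pow q hi') ((Nat.modEq_iff_dvd' ?_).1 hsum.symm)
    by_contra hlt
    push Not at hlt
    have h0 : ∑ p, c p = 0 := by omega
    have := hsum
    rw [h0] at this
    have h2 : q ^ d.factorization q ∣ 1 := Nat.modEq_zero_iff_dvd.1 this.symm
    rw [Nat.dvd_one, Nat.pow_eq_one] at h2
    rcases h2 with h | h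
    · exact hq.ne_one h
    · omega

theorem pow_exponent {D : Type v} [DivisionRing D] [Algebra k D] [Algebra.IsCentral k D] [Module.Finite k D]
    {d : ℕ} (hd : Module.finrank k D = d ^ 2) {a : ℕ} (ha : a ≡ 1 [MOD d]) :
    cls (k := k) D ^ a = cls D :=
  calc cls (k := k) D ^ a = cls (k := k) D ^ 1 := by
        rw [pow_eq_pow_mod a (cls_pow_deg hd), pow_eq_pow_mod 1 (cls_pow_deg hd)]
        congr 1
    _ = cls D := pow_one _

theorem decomposition {D : Type v} [DivisionRing D] [Algebra k D] [Algebra.IsCentral k D] [Module.Finite k D]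
    {d : ℕ} (hd : Module.finrank k D = d ^ 2) :
    ∃ (E : d.primeFactors → Type v) (_ : ∀ p, DivisionRing (E p)) (_ : ∀ p, Algebra k (E p)),
      (∀ p, Algebra.IsCentral k (E p) ∧ Module.finrank k (E p) = (p.1 ^ d.factorization p.1) ^ 2) ∧
      Nonempty (D ≃ₐ[k] ⨂[k] p, E p) := by
  classical
  have hd0 : d ≠ 0 := fun h => by
    subst h
    exact (Module.finrank_pos (R := k) (M := D)).ne' (by simpa using hd)
  obtain ⟨c, hc1, hc0, hcs⟩ := exists_exponents hd0
  haveI : Small.{v} k := small_of_injective (algebraMap k D).injective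
  have hex : ∀ p : d.primeFactors, ∃ (E : Type v) (_ : DivisionRing E) (_ : Algebra k E),
      Algebra.IsCentral k E ∧ ∃ _ : Module.Finite k E, cls (k := k) E = cls D ^ c p := fun p => by
    obtain ⟨h1, h2⟩ := csa_pi_fin (k := k) fun _ : Fin (c p) => D
    obtain ⟨m, E, _, _, hm, _, _, ⟨e⟩⟩ := exists_div (k := k) (CSAGal.tpow k D (c p))
    haveI : Small.{v} E := small_map (Module.finBasis k E).equivFun.toEquiv
    haveI : Module.Finite k (Shrink.{v} E) := Module.Finite.equiv (Shrink.algEquiv (R := k) E).symm.toLinearEquiv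
    exact ⟨Shrink.{v} E, inferInstance, inferInstance, isCentral_congr (Shrink.algEquiv (R := k) E).symm,
      inferInstance, by rw [cls_congr (Shrink.algEquiv (R := k) E), ← cls_tpow, cls_of_equiv_matrix hm.ne' e]⟩
  choose E iD iA hcen ifin hcl using hex
  haveI := hcen
  haveI := ifin
  choose e he0 he using fun p => exists_deg (k := k) (E p)
  have hq : ∀ p : d.primeFactors, cls (k := k) (E p) ^ (p.1 ^ d.factorization p.1) = 1 := fun p => by
    rw [hcl, ← pow_mul]
    have : d ∣ c p * p.1 ^ d.factorization p.1 := by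
      rw [Nat.dvd_iff_prime_pow_dvd_dvd]
      intro q i hqp hqi
      rcases Nat.eq_zero_or_pos i with rfl | hi
      · simp
      have hqd : q ∈ d.primeFactors :=
        Nat.mem_primeFactors.2 ⟨hqp, (dvd_pow_self q hi.ne').trans hqi, hd0⟩
      have hle : q ^ i ∣ q ^ d.factorization q :=
        pow_dvd_pow q ((hqp.pow_dvd_iff_le_factorization hd0).1 hqi)
      by_cases h : (⟨q, hqd⟩ : d.primeFactors) = p
      · subst h; exact hle.mul_left _
      · exact (hle.trans (hc0 p _ h)).mul_right _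
    obtain ⟨t, ht⟩ := this
    rw [ht, pow_mul, cls_pow_deg hd, one_pow]
  have hdvd : ∀ p : d.primeFactors, e p ∣ p.1 ^ d.factorization p.1 := fun p =>
    pow_prime_dvd (Nat.prime_of_mem_primeFactors p.2) hd0 (dvd_of_cls_eq_pow hd (he p) (hcl p))
      fun q hqp hqe => (Nat.prime_dvd_prime_iff_eq hqp (Nat.prime_of_mem_primeFactors p.2)).1
        (hqp.dvd_of_dvd_pow (prime_dvd_of_cls_pow (he p) (hq p) hqp hqe))
  obtain ⟨hT1, hT2⟩ := csa_pi (k := k) E
  obtain ⟨m, D₂, _, _, hm, _, _, ⟨eT⟩⟩ := exists_div (k := k) (⨂[k] p, E p)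
  have hcls : cls (k := k) D₂ = cls D := by
    rw [← cls_of_equiv_matrix hm.ne' eT, cls_pi, Finset.prod_congr rfl fun p _ => hcl p,
      Finset.prod_pow_eq_pow_sum, pow_exponent hd hcs]
  obtain ⟨i⟩ := nonempty_algEquiv_of_cls_eq D₂ D hcls
  have hdim : (∏ p, e p) = m * d := by
    refine Nat.pow_left_injective two_ne_zero ?_
    have h := eT.toLinearEquiv.finrank_eq
    rw [finrank_piTensor, Module.finrank_matrix, i.toLinearEquiv.finrank_eq, hd] at h
    simp only [he, Fintype.card_fin, Finset.prod_pow] at h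
    show (∏ p, e p) ^ 2 = (m * d) ^ 2
    rw [h]; ring
  have hprod : ∏ p : d.primeFactors, p.1 ^ d.factorization p.1 = d := by
    conv_rhs => rw [← Nat.prod_factorization_pow_eq_self hd0]
    rw [Finsupp.prod, Nat.support_factorization]
    exact Finset.prod_coe_sort d.primeFactors fun p => p ^ d.factorization p
  have hle : ∀ p : d.primeFactors, e p ≤ p.1 ^ d.factorization p.1 := fun p =>
    Nat.le_of_dvd (pow_pos (Nat.prime_of_mem_primeFactors p.2).pos _) (hdvd p)
  have heq : ∀ p : d.primeFactors, e p = p.1 ^ d.factorization p.1 := fun p => by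
    by_contra hne
    have := Finset.prod_lt_prod (s := Finset.univ) (fun q _ => he0 q) (fun q _ => hle q)
      ⟨p, Finset.mem_univ p, lt_of_le_of_ne (hle p) hne⟩
    rw [hdim, hprod] at this
    nlinarith
  have hm1 : m = 1 := by
    have : m * d = d := by rw [← hdim, Finset.prod_congr rfl fun p _ => heq p, hprod]
    exact Nat.eq_of_mul_eq_mul_right (Nat.pos_of_ne_zero hd0) (this.trans (one_mul d).symm)
  subst hm1
  refine ⟨E, iD, iA, fun p => ⟨hcen p, by rw [he, heq]⟩, ⟨?_⟩⟩
  exact i.symm.trans (((AlgEquiv.ofBijective (Matrix.scalarAlgHom (Fin 1) k)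
    ⟨fun a b h => Matrix.scalar_inj.1 h, fun M => ⟨M 0 0, by
      ext r s
      simp [Subsingleton.elim r 0, Subsingleton.elim s 0]⟩⟩)).trans eT.symm)

theorem component_eq {D : Type v} [DivisionRing D] [Algebra k D] [Algebra.IsCentral k D] [Module.Finite k D]
    {d : ℕ} (hd0 : d ≠ 0)
    (E : d.primeFactors → Type v) [∀ p, DivisionRing (E p)] [∀ p, Algebra k (E p)]
    [∀ p, Algebra.IsCentral k (E p)] [∀ p, Module.Finite k (E p)]
    (hE : ∀ p, Module.finrank k (E p) = (p.1 ^ d.factorization p.1) ^ 2)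
    (e : D ≃ₐ[k] ⨂[k] p, E p) {c : ℕ} {p : d.primeFactors}
    (hc1 : c ≡ 1 [MOD p.1 ^ d.factorization p.1])
    (hc0 : ∀ q : d.primeFactors, q ≠ p → q.1 ^ d.factorization q.1 ∣ c) :
    cls (k := k) (E p) = cls D ^ c := by
  classical
  rw [cls_congr e, cls_pi, ← Finset.prod_pow, Finset.prod_eq_single p]
  · exact (pow_exponent (hE p) hc1).symm
  · intro q _ hq
    obtain ⟨t, ht⟩ := hc0 q hq
    rw [ht, pow_mul, cls_pow_deg (hE q), one_pow]
  · exact fun h => absurd (Finset.mem_univ p) h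

end Groth.Agent.BrauerClassLib
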