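import Groth.Agent.BrauerClassLib.CyclicNorm
import Mathlib

/-!
# Existence of cyclic presentations; powers of cyclic algebras
-/

open scoped TensorProduct

universe u v w x

namespace Groth.Agent.BrauerClassLib.Cyclic

variable {k : Type u} [Field k] {K : Type v} [Field K] [Algebra k K] [FiniteDimensional k K] [IsGalois k K]
  {σ : K ≃ₐ[k] K} (hσ : ∀ τ : K ≃ₐ[k] K, τ ∈ Subgroup.zpowers σ)
include hσ

theorem exists_gen {A : Type w} [Ring A] [Algebra k A] [Algebra.IsCentral k A] [IsSimpleRing A]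
    [Module.Finite k A] (hA : Module.finrank k A = Module.finrank k K ^ 2) (ι : K →ₐ[k] A) :
    ∃ (R : Gen σ A) (b : kˣ), R.ι = ι ∧ R.y ^ Module.finrank k K = algebraMap k A (b : k) := by
  obtain ⟨u, hu⟩ := CSALib.exists_conj ι (ι.comp (σ : K →ₐ[k] K))
  let R : Gen σ A :=
    { ι := ι
      y := u
      rel := fun x => by
        rw [hu x, mul_assoc, Units.inv_mul, mul_one]
        rfl
      unit := u.isUnit
      dim := hA }
  obtain ⟨b, hb⟩ := R.pow_scalar hσ
  haveI := R.nontrivial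
  have hb0 : b ≠ 0 := fun h => (u.isUnit.pow (Module.finrank k K)).ne_zero
    (show (u : A) ^ _ = 0 by rw [show (u : A) = R.y from rfl, hb, h, map_zero])
  exact ⟨R, Units.mk0 b hb0, rfl, hb⟩

theorem exists_pow {A : Type w} [Ring A] [Algebra k A] [Module.Finite k A] (R : Gen σ A) (b : kˣ)
    (hb : R.y ^ Module.finrank k K = algebraMap k A (b : k)) (e : ℕ) :
    ∃ (X : FAlg k) (S : Gen σ X.carrier),
      S.y ^ Module.finrank k K = algebraMap k X.carrier ((b ^ e : kˣ) : k) ∧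
      cls (k := k) X.carrier = cls A ^ e := by
  induction e with
  | zero =>
    obtain ⟨S, hS⟩ := exists_endGen hσ (one_ne_zero (α := K))
    rw [map_one] at hS
    obtain ⟨X, ⟨f⟩⟩ := exists_small (k := k) (Module.End k K)
    exact ⟨X, S.map f, by simpa using Gen.map_pow hS f, by rw [← cls_congr f, cls_end, pow_zero]⟩
  | succ e ih =>
    obtain ⟨X, S, hS, hX⟩ := ih
    obtain ⟨Y, T, hT, hY⟩ := exists_mul hσ S R (b ^ e) b hS hb
    exact ⟨Y, T, by rwa [pow_succ b], by rw [hY, hX, pow_succ]⟩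

theorem cls_pow_eq_one_iff {A : Type w} [Ring A] [Algebra k A] [Module.Finite k A] (R : Gen σ A) (b : kˣ)
    (hb : R.y ^ Module.finrank k K = algebraMap k A (b : k)) (e : ℕ) :
    cls (k := k) A ^ e = 1 ↔ ∃ x : K, Algebra.norm k x = (b : k) ^ e := by
  obtain ⟨X, S, hS, hX⟩ := exists_pow hσ R b hb e
  haveI := S.isCentral hσ; haveI := S.isSimple hσ
  rw [← hX, ← splits_iff_cls, S.splits_iff hσ (b ^ e) hS, Units.val_pow_eq_pow_val]

theorem isPeriod_iff_norm {A : Type w} [Ring A] [Algebra k A] (R : Gen σ A) (b : kˣ)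
    (hb : R.y ^ Module.finrank k K = algebraMap k A (b : k)) (e : ℕ) :
    CSAGal.IsPeriod k A e ↔
      (0 < e ∧ (∃ x : K, Algebra.norm k x = (b : k) ^ e) ∧
        ∀ e' : ℕ, 0 < e' → e' < e → ¬ ∃ x : K, Algebra.norm k x = (b : k) ^ e') := by
  haveI := R.finite; haveI := R.isCentral hσ; haveI := R.isSimple hσ
  rw [isPeriod_iff]
  constructor
  · rintro ⟨h0, h⟩
    obtain ⟨h1, h2⟩ := (orderOf_eq_iff h0).1 h
    exact ⟨h0, (cls_pow_eq_one_iff hσ R b hb e).1 h1,
      fun e' h0' hlt hx => h2 e' hlt h0' ((cls_pow_eq_one_iff hσ R b hb e').2 hx)⟩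
  · rintro ⟨h0, h1, h2⟩
    exact ⟨h0, (orderOf_eq_iff h0).2 ⟨(cls_pow_eq_one_iff hσ R b hb e).2 h1,
      fun e' hlt h0' h => h2 e' h0' hlt ((cls_pow_eq_one_iff hσ R b hb e').1 h)⟩⟩

omit hσ

/-- Similar central simple algebras of equal dimension are isomorphic. -/
theorem nonempty_algEquiv_of_sim {A : Type w} [Ring A] [Algebra k A] [Algebra.IsCentral k A] [IsSimpleRing A]
    [Module.Finite k A] {B : Type x} [Ring B] [Algebra k B] [Algebra.IsCentral k B] [IsSimpleRing B]
    [Module.Finite k B] (h : cls (k := k) A = cls B) (hd : Module.finrank k A = Module.finrank k B) :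
    Nonempty (A ≃ₐ[k] B) := by
  obtain ⟨r, D, _, _, hr, _, _, ⟨e⟩⟩ := exists_div (k := k) A
  obtain ⟨s, D', _, _, hs, _, _, ⟨f⟩⟩ := exists_div (k := k) B
  rw [cls_of_equiv_matrix hr.ne' e, cls_of_equiv_matrix hs.ne' f] at h
  obtain ⟨g⟩ := nonempty_algEquiv_of_cls_eq D D' h
  rw [e.toLinearEquiv.finrank_eq, f.toLinearEquiv.finrank_eq, Module.finrank_matrix, Module.finrank_matrix,
    ← g.toLinearEquiv.finrank_eq] at hd
  simp only [Fintype.card_fin] at hd
  have hrs : r = s := Nat.pow_left_injective two_ne_zero (by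
    simpa [sq] using Nat.eq_of_mul_eq_mul_right (Module.finrank_pos (R := k) (M := D)) hd)
  subst hrs
  exact ⟨e.trans (g.mapMatrix.trans f.symm)⟩

end Groth.Agent.BrauerClassLib.Cyclic
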