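import Groth.Agent.BrauerClassLib.Monoid
import Groth.Agent.CSADescent.Basic
import Mathlib

/-!
# Antisymmetrizers in tensor powers of split algebras
-/

open scoped TensorProduct

universe u v w x

namespace Groth.Agent.BrauerClassLib

section MatrixPart

variable {K : Type w} [CommRing K] {n r : ℕ}

/-- The Kronecker product of a family of square matrices, as a multilinear map. -/
noncomputable def kron : MultilinearMap K (fun _ : Fin r => Matrix (Fin n) (Fin n) K)
    (Matrix (Fin r → Fin n) (Fin r → Fin n) K) where
  toFun g := Matrix.of fun I J => ∏ i, g i (I i) (J i)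
  map_update_add' g i p q := by
    ext I J
    simp only [Matrix.of_apply, Matrix.add_apply]
    simp only [Function.apply_update (fun j (M : Matrix (Fin n) (Fin n) K) => M (I j) (J j)), Matrix.add_apply,
      Finset.prod_update_of_mem (Finset.mem_univ i), add_mul]
  map_update_smul' g i c p := by
    ext I J
    simp only [Matrix.of_apply, Matrix.smul_apply]
    simp only [Function.apply_update (fun j (M : Matrix (Fin n) (Fin n) K) => M (I j) (J j)), Matrix.smul_apply,
      Finset.prod_update_of_mem (Finset.mem_univ i), smul_eq_mul, mul_assoc]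

theorem kron_apply (g : Fin r → Matrix (Fin n) (Fin n) K) (I J : Fin r → Fin n) :
    kron g I J = ∏ i, g i (I i) (J i) := rfl

theorem kron_mul (g h : Fin r → Matrix (Fin n) (Fin n) K) : kron (g * h) = kron g * kron h := by
  ext I J
  simp only [kron_apply, Matrix.mul_apply, Pi.mul_apply, ← Finset.prod_mul_distrib]
  exact Fintype.prod_sum fun i l => g i (I i) l * h i l (J i)

theorem kron_one : kron (1 : Fin r → Matrix (Fin n) (Fin n) K) = 1 := by
  ext I J
  simp [kron_apply, Matrix.one_apply, Fintype.prod_ite_zero, funext_iff]

theorem kron_transpose (g : Fin r → Matrix (Fin n) (Fin n) K) :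
    (kron g).transpose = kron fun i => (g i).transpose := by
  ext I J; simp [kron_apply]

theorem kron_map {L : Type x} [CommRing L] (f : K →+* L) (g : Fin r → Matrix (Fin n) (Fin n) K) :
    (kron g).map f = kron fun i => (g i).map f := by
  ext I J; simp [kron_apply, map_prod]

/-- Subsets with `r` elements. -/
abbrev Sub (n r : ℕ) := {s : Finset (Fin n) // s.card = r}

/-- The increasing enumeration of a subset. -/
noncomputable def enum (S : Sub n r) : Fin r → Fin n := S.1.orderEmbOfFin S.2

theorem enum_injective (S : Sub n r) : Function.Injective (enum S) := (S.1.orderEmbOfFin S.2).injective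

theorem exists_perm {I : Fin r → Fin n} (hI : Function.Injective I) :
    ∃ (S : Sub n r) (π : Equiv.Perm (Fin r)), I = enum S ∘ π := by
  classical
  let S : Sub n r := ⟨Finset.univ.image I, by rw [Finset.card_image_of_injective _ hI]; simp⟩
  let f : Fin r → Fin r := fun a =>
    (S.1.orderIsoOfFin S.2).symm ⟨I a, Finset.mem_image_of_mem I (Finset.mem_univ a)⟩
  have hf : Function.Injective f := fun a b h =>
    hI (congrArg Subtype.val ((S.1.orderIsoOfFin S.2).symm.injective h))
  refine ⟨S, Equiv.ofBijective f (Finite.injective_iff_bijective.1 hf), funext fun a => ?_⟩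
  simp [enum, f, ← Finset.coe_orderIsoOfFin_apply]

/-- The wedge vectors of the coordinate subspaces. -/
noncomputable def wedge : Matrix (Fin r → Fin n) (Sub n r) K :=
  Matrix.of fun I S => ((1 : Matrix (Fin n) (Fin n) K).submatrix I (enum S)).det

/-- The compound matrix. -/
noncomputable def compound (g : Matrix (Fin n) (Fin n) K) : Matrix (Sub n r) (Sub n r) K :=
  Matrix.of fun S T => (g.submatrix (enum S) (enum T)).det

theorem compound_transpose (g : Matrix (Fin n) (Fin n) K) :
    (compound (r := r) g).transpose = compound g.transpose := by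
  ext S T
  simp only [compound, Matrix.transpose_apply, Matrix.of_apply]
  rw [← Matrix.det_transpose, Matrix.transpose_submatrix]

theorem wedge_of_perm (S T : Sub n r) (π : Equiv.Perm (Fin r)) :
    (wedge : Matrix (Fin r → Fin n) (Sub n r) K) (enum S ∘ π) T =
      if T = S then ((Equiv.Perm.sign π : ℤ) : K) else 0 := by
  simp only [wedge, Matrix.of_apply]
  split_ifs with h
  · subst h
    rw [show (1 : Matrix (Fin n) (Fin n) K).submatrix (enum T ∘ π) (enum T) =
        ((1 : Matrix (Fin n) (Fin n) K).submatrix (enum T) (enum T)).submatrix π id from rfl,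
      Matrix.det_permute, Matrix.submatrix_one _ (enum_injective T), Matrix.det_one, mul_one]
  · obtain ⟨a, ha⟩ : ∃ a, enum S (π a) ∉ Set.range (enum T) := by
      by_contra hcon
      push Not at hcon
      refine h (Subtype.ext (Finset.eq_of_subset_of_card_le (fun x hx => ?_) (by rw [S.2, T.2])).symm)
      obtain ⟨b, rfl⟩ : ∃ b, enum S b = x := by
        rw [← Set.mem_range, enum, Finset.range_orderEmbOfFin]; exact hx
      obtain ⟨a, rfl⟩ := π.surjective b
      obtain ⟨c, hc⟩ := hcon a
      rw [← hc]
      exact Finset.orderEmbOfFin_mem _ _ _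
    refine Matrix.det_eq_zero_of_row_eq_zero a fun j => ?_
    rw [Matrix.submatrix_apply, Matrix.one_apply_ne]
    exact fun e => ha ⟨j, e.symm⟩

theorem kron_mul_wedge (g : Matrix (Fin n) (Fin n) K) :
    (kron (fun _ : Fin r => g) : Matrix (Fin r → Fin n) (Fin r → Fin n) K) *
        (wedge (K := K) (n := n) (r := r)) =
      (wedge (K := K) (n := n) (r := r)) * compound (r := r) g := by
  classical
  ext I T
  have hL : ((kron (fun _ : Fin r => g) : Matrix (Fin r → Fin n) (Fin r → Fin n) K) *
      (wedge (K := K) (n := n) (r := r))) I T = (g.submatrix I (enum T)).det := by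
    rw [← Matrix.det_transpose, Matrix.det_apply', Matrix.mul_apply]
    simp only [wedge, Matrix.of_apply, kron_apply, Matrix.transpose_apply, Matrix.submatrix_apply]
    conv_lhs =>
      enter [2, L]
      rw [← Matrix.det_transpose, Matrix.det_apply', Finset.mul_sum]
      simp only [Matrix.transpose_apply, Matrix.submatrix_apply]
    rw [Finset.sum_comm]
    refine Finset.sum_congr rfl fun π _ => ?_
    rw [Finset.sum_eq_single (enum T ∘ π)]
    · simp [Matrix.one_apply]; ring
    · intro L _ hL
      obtain ⟨a, ha⟩ : ∃ a, L a ≠ enum T (π a) := by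
        by_contra hcon
        push Not at hcon
        exact hL (funext hcon)
      rw [Finset.prod_eq_zero (f := fun x => (1 : Matrix (Fin n) (Fin n) K) (L x) (enum T (π x)))
        (Finset.mem_univ a) (Matrix.one_apply_ne ha), mul_zero, mul_zero]
    · exact fun h => absurd (Finset.mem_univ _) h
  rw [hL]
  by_cases hI : Function.Injective I
  · obtain ⟨S, π, rfl⟩ := exists_perm hI
    rw [Matrix.mul_apply, Finset.sum_eq_single S]
    · rw [wedge_of_perm, if_pos rfl,
        show g.submatrix (enum S ∘ π) (enum T) = (g.submatrix (enum S) (enum T)).submatrix π id from rfl,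
        Matrix.det_permute]
      rfl
    · intro S' _ hS'
      rw [wedge_of_perm, if_neg hS', zero_mul]
    · exact fun h => absurd (Finset.mem_univ _) h
  · simp only [Function.Injective, not_forall] at hI
    obtain ⟨a, b, hab, hne⟩ := hI
    rw [Matrix.det_zero_of_row_eq hne (by ext j; simp only [Matrix.submatrix_apply, hab]), Matrix.mul_apply]
    refine (Finset.sum_eq_zero fun S _ => ?_).symm
    simp only [wedge, Matrix.of_apply]
    rw [Matrix.det_zero_of_row_eq hne (funext fun j => congrArg (fun x => (1 : Matrix (Fin n) (Fin n) K) x (enum S j)) hab), zero_mul]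

/-- Left inverse of the wedge matrix. -/
noncomputable def wedgeInv : Matrix (Sub n r) (Fin r → Fin n) K :=
  Matrix.of fun S I => if I = enum S then 1 else 0

theorem wedgeInv_mul : (wedgeInv : Matrix (Sub n r) (Fin r → Fin n) K) * (wedge (K := K) (n := n) (r := r)) = 1 := by
  ext S T
  simp only [wedgeInv, Matrix.mul_apply, Matrix.of_apply, ite_mul, one_mul, zero_mul,
    Finset.sum_ite_eq', Finset.mem_univ, if_true]
  have h := wedge_of_perm (K := K) S T 1
  simp only [Equiv.Perm.coe_one, Function.comp_id, map_one, Units.val_one, Int.cast_one] at h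
  rw [h, Matrix.one_apply]
  simp only [eq_comm]

/-- The antisymmetrizer. -/
noncomputable def asym : Matrix (Fin r → Fin n) (Fin r → Fin n) K :=
  (wedge (K := K) (n := n) (r := r)) * (wedge (K := K) (n := n) (r := r)).transpose

theorem kron_mul_asym (g : Matrix (Fin n) (Fin n) K) :
    kron (fun _ : Fin r => g) * asym = asym * kron (fun _ : Fin r => g) := by
  have h2 := congrArg Matrix.transpose (kron_mul_wedge (r := r) g.transpose)
  rw [Matrix.transpose_mul, Matrix.transpose_mul, kron_transpose, compound_transpose] at h2
  simp only [Matrix.transpose_transpose] at h2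
  rw [asym, ← Matrix.mul_assoc, kron_mul_wedge, Matrix.mul_assoc, Matrix.mul_assoc, h2]

theorem asym_map {L : Type x} [CommRing L] (f : K →+* L) :
    (asym (K := K) (n := n) (r := r)).map f = asym := by
  have h : (wedge (K := K) (n := n) (r := r)).map f = wedge := by
    ext I S
    simp only [wedge, Matrix.map_apply, Matrix.of_apply]
    rw [RingHom.map_det, RingHom.mapMatrix_apply, ← Matrix.submatrix_map, Matrix.map_one f (map_zero f) (map_one f)]
  rw [asym, Matrix.map_mul]
  show (wedge (K := K) (n := n) (r := r)).map f * ((wedge (K := K) (n := n) (r := r)).map f).transpose = _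
  rw [h]; rfl

theorem finrank_range_mulRight_asym (K : Type w) [Field K] (n r : ℕ) :
    Module.finrank K (LinearMap.range (LinearMap.mulRight K (asym (K := K) (n := n) (r := r)))) =
      n ^ r * n.choose r := by
  let L : Matrix (Fin r → Fin n) (Sub n r) K →ₗ[K] Matrix (Fin r → Fin n) (Fin r → Fin n) K :=
    { toFun := fun Y => Y * (wedge (K := K) (n := n) (r := r)).transpose
      map_add' := fun a b => Matrix.add_mul a b _
      map_smul' := fun c a => Matrix.smul_mul c a _ }
  have hL : Function.Injective L := fun a b h => by
    have e : ((wedge (K := K) (n := n) (r := r))).transpose * (wedgeInv (K := K) (n := n) (r := r)).transpose = 1 := by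
      rw [← Matrix.transpose_mul, wedgeInv_mul, Matrix.transpose_one]
    have h2 := congrArg (fun M : Matrix (Fin r → Fin n) (Fin r → Fin n) K =>
      M * (wedgeInv (K := K) (n := n) (r := r)).transpose)
      (show a * (wedge (K := K) (n := n) (r := r)).transpose = b * (wedge (K := K) (n := n) (r := r)).transpose from h)
    rwa [Matrix.mul_assoc, Matrix.mul_assoc, e, Matrix.mul_one, Matrix.mul_one] at h2
  have hrange : LinearMap.range (LinearMap.mulRight K (asym (K := K) (n := n) (r := r))) = LinearMap.range L := by
    refine le_antisymm ?_ ?_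
    · intro Z hZ
      obtain ⟨X, hX⟩ := hZ
      let X' : Matrix (Fin r → Fin n) (Fin r → Fin n) K := X
      refine ⟨X' * (wedge (K := K) (n := n) (r := r)), ?_⟩
      rw [← hX]
      show X' * (wedge (K := K) (n := n) (r := r)) * (wedge (K := K) (n := n) (r := r)).transpose = X' * asym
      rw [asym, Matrix.mul_assoc]
    · intro Z hZ
      obtain ⟨Y, hY⟩ := hZ
      let Y' : Matrix (Fin r → Fin n) (Sub n r) K := Y
      refine ⟨Y' * (wedgeInv (K := K) (n := n) (r := r)), ?_⟩
      rw [← hY]
      show Y' * (wedgeInv (K := K) (n := n) (r := r)) * asym = Y' * (wedge (K := K) (n := n) (r := r)).transpose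
      rw [asym, Matrix.mul_assoc, ← Matrix.mul_assoc (wedgeInv (K := K) (n := n) (r := r)), wedgeInv_mul,
        Matrix.one_mul]
  rw [hrange, LinearMap.finrank_range_of_inj hL, Module.finrank_matrix]
  simp

end MatrixPart

/-- The dimension of a representation of matrices over a skew field. -/
theorem mul_sq_dvd_finrank {k : Type u} [Field k] {D : Type v} [DivisionRing D] [Algebra k D]
    [FiniteDimensional k D] {m : ℕ} [NeZero m] {W : Type w} [AddCommGroup W] [Module k W]
    [FiniteDimensional k W] (ρ : Matrix (Fin m) (Fin m) D →ₐ[k] Module.End k W) :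
    m * Module.finrank k D ∣ Module.finrank k W := by
  classical
  let o : Fin m := 0
  let P : Submodule k W := LinearMap.range (ρ (Matrix.single o o 1))
  have hmul : ∀ a b x, ρ a (ρ b x) = ρ (a * b) x := fun a b x => by rw [map_mul]; rfl
  have hP : ∀ p ∈ P, ρ (Matrix.single o o 1) p = p := by
    rintro _ ⟨x, rfl⟩
    rw [hmul, Matrix.single_mul_single_same, mul_one]
  let act : D →ₐ[k] Module.End k P :=
    AlgHom.ofLinearMap
      { toFun := fun d =>
          ((ρ (Matrix.single o o d)).comp P.subtype).codRestrict P fun p => ⟨ρ (Matrix.single o o d) p.1, by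
            rw [hmul, Matrix.single_mul_single_same, one_mul]; rfl⟩
        map_add' := fun a b => by ext p; simp [Matrix.single_add]
        map_smul' := fun c a => by ext p; simp [← Matrix.smul_single] }
      (by
        ext p
        show ρ (Matrix.single o o 1) p.1 = p.1
        exact hP _ p.2)
      (fun a b => by
        ext p
        show ρ (Matrix.single o o (a * b)) p.1 = ρ (Matrix.single o o a) (ρ (Matrix.single o o b) p.1)
        rw [hmul, Matrix.single_mul_single_same])
  letI : Module D P := Module.compHom P act.toRingHom
  haveI : IsScalarTower k D P := ⟨fun c d p => by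
    show act (c • d) p = c • act d p
    rw [map_smul]; rfl⟩
  let e : W ≃ₗ[k] (Fin m → P) := LinearEquiv.ofLinearMap
    (LinearMap.pi fun i => (ρ (Matrix.single o i 1)).codRestrict P fun x => ⟨ρ (Matrix.single o i 1) x, by
      rw [hmul, Matrix.single_mul_single_same, one_mul]⟩)
    (∑ i, (ρ (Matrix.single i o 1)).comp (P.subtype.comp (LinearMap.proj i)))
    (by
      refine LinearMap.ext fun f => funext fun i => Subtype.ext ?_
      show ρ (Matrix.single o i 1) ((∑ j, (ρ (Matrix.single j o 1)).comp (P.subtype.comp (LinearMap.proj j))) f) = f i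
      rw [LinearMap.sum_apply, map_sum, Finset.sum_eq_single i]
      · show ρ _ (ρ _ (f i).1) = _
        rw [hmul, Matrix.single_mul_single_same, one_mul, hP _ (f i).2]
      · intro j _ hj
        show ρ _ (ρ _ (f j).1) = 0
        rw [hmul, Matrix.single_mul_single_of_ne (h := hj.symm), map_zero, LinearMap.zero_apply]
      · exact fun h => absurd (Finset.mem_univ _) h)
    (by
      refine LinearMap.ext fun x => ?_
      show (∑ j, (ρ (Matrix.single j o 1)).comp (P.subtype.comp (LinearMap.proj j))) _ = x
      rw [LinearMap.sum_apply]
      calc ∑ j, ρ (Matrix.single j o 1) (ρ (Matrix.single o j 1) x)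
          = ρ (∑ j, Matrix.single j j 1) x := by
            rw [map_sum, LinearMap.sum_apply]
            exact Finset.sum_congr rfl fun j _ => by rw [hmul, Matrix.single_mul_single_same, one_mul]
        _ = x := by
            rw [show (∑ j : Fin m, Matrix.single j j (1 : D)) = 1 from by
              ext a b; simp [Matrix.sum_apply, Matrix.single_apply, Matrix.one_apply, ite_and], map_one]
            rfl)
  refine ⟨Module.finrank D P, ?_⟩
  rw [e.finrank_eq, Module.finrank_pi_fintype, mul_assoc, Module.finrank_mul_finrank k D P]
  simp

end Groth.Agent.BrauerClassLib
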