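import Groth.Agent.BrauerClassLib.Index
import Mathlib

/-!
# Cyclic algebras

An algebra with a copy of a cyclic field `K` and a unit inducing the generator on it, of dimension
`[K:k]²`: bases, simplicity, centre and uniqueness.
-/

open scoped TensorProduct

universe u v w x

namespace Groth.Agent.BrauerClassLib.Cyclic

variable {k : Type u} [Field k] {K : Type v} [Field K] [Algebra k K]

section Galois

variable [FiniteDimensional k K] [IsGalois k K] {σ : K ≃ₐ[k] K}

theorem orderOf_gen (hσ : ∀ τ : K ≃ₐ[k] K, τ ∈ Subgroup.zpowers σ) : orderOf σ = Module.finrank k K := by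
  rw [orderOf_eq_card_of_forall_mem_zpowers hσ, IsGalois.card_aut_eq_finrank]

theorem pow_finrank (hσ : ∀ τ : K ≃ₐ[k] K, τ ∈ Subgroup.zpowers σ) : σ ^ Module.finrank k K = 1 := by
  rw [← orderOf_gen hσ, pow_orderOf_eq_one]

theorem mem_range_of_fixed (hσ : ∀ τ : K ≃ₐ[k] K, τ ∈ Subgroup.zpowers σ) {x : K} (hx : σ x = x) :
    ∃ c : k, algebraMap k K c = x :=
  (IsGalois.mem_range_algebraMap_iff_fixed x).2 fun τ =>
    (Subgroup.zpowers_le (H := MulAction.stabilizer (K ≃ₐ[k] K) x)).2 hx (hσ τ)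

theorem exists_ne (hσ : ∀ τ : K ≃ₐ[k] K, τ ∈ Subgroup.zpowers σ) {i j : ℕ} (hi : i < Module.finrank k K)
    (hj : j < Module.finrank k K) (hij : i ≠ j) : ∃ x, (σ ^ i) x ≠ (σ ^ j) x := by
  by_contra h
  push_neg at h
  exact hij (pow_injOn_Iio_orderOf (by simpa [orderOf_gen hσ] using hi) (by simpa [orderOf_gen hσ] using hj)
    (AlgEquiv.ext h))

theorem prod_pow_apply (hσ : ∀ τ : K ≃ₐ[k] K, τ ∈ Subgroup.zpowers σ) (x : K) :
    ∏ i ∈ Finset.range (Module.finrank k K), (σ ^ i) x = algebraMap k K (Algebra.norm k x) := by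
  classical
  rw [Algebra.norm_eq_prod_automorphisms, ← Fin.prod_univ_eq_prod_range (fun i => (σ ^ i) x)]
  refine Function.Bijective.prod_comp (e := fun i : Fin (Module.finrank k K) => σ ^ (i : ℕ)) ?_ fun τ => τ x
  refine (Fintype.bijective_iff_injective_and_card _).2 ⟨fun i j h => Fin.ext
    (pow_injOn_Iio_orderOf (by simp [orderOf_gen hσ, i.2]) (by simp [orderOf_gen hσ, j.2]) h), ?_⟩
  rw [Fintype.card_fin, ← Nat.card_eq_fintype_card, IsGalois.card_aut_eq_finrank]

end Galois

/-- A map of `K` and an element inducing `σ` on its image. -/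
structure Rel (σ : K ≃ₐ[k] K) (A : Type w) [Ring A] [Algebra k A] where
  ι : K →ₐ[k] A
  y : A
  rel : ∀ x, ι x * y = y * ι (σ x)

namespace Rel

variable {σ : K ≃ₐ[k] K} {A : Type w} [Ring A] [Algebra k A] (R : Rel σ A)

theorem rel_pow (n : ℕ) (x : K) : R.ι x * R.y ^ n = R.y ^ n * R.ι ((σ ^ n) x) := by
  induction n generalizing x with
  | zero => simp
  | succ n ih =>
    rw [pow_succ, ← mul_assoc, ih, mul_assoc, R.rel, ← mul_assoc, pow_succ' σ]
    rfl

theorem term_mul (i j : ℕ) (c d : K) :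
    R.y ^ i * R.ι c * (R.y ^ j * R.ι d) = R.y ^ (i + j) * R.ι ((σ ^ j) c * d) := by
  rw [pow_add, map_mul, mul_assoc, ← mul_assoc (R.ι c), rel_pow]
  simp only [mul_assoc]

variable [FiniteDimensional k K] [IsGalois k K]

/-- The minimal support argument. -/
theorem one_mem_or (hσ : ∀ τ : K ≃ₐ[k] K, τ ∈ Subgroup.zpowers σ) (hy : IsUnit R.y) (I : TwoSidedIdeal A)
    (s : Finset ℕ) :
    ∀ c : ℕ → K, (∀ i ∈ s, i < Module.finrank k K) → (∑ i ∈ s, R.y ^ i * R.ι (c i)) ∈ I →
      (1 : A) ∈ I ∨ ∀ i ∈ s, c i = 0 := by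
  classical
  induction s using Finset.induction_on with
  | empty => exact fun c _ _ => Or.inr fun i hi => absurd hi (Finset.notMem_empty i)
  | insert a s ha ih =>
    intro c hs h
    have key : ∀ x, (∑ i ∈ s, R.y ^ i * R.ι (((σ ^ i) x - (σ ^ a) x) * c i)) ∈ I := by
      intro x
      have h' := I.sub_mem (I.mul_mem_left (R.ι x) _ h) (I.mul_mem_right _ (R.ι ((σ ^ a) x)) h)
      have e : ∀ i, R.ι x * (R.y ^ i * R.ι (c i)) - R.y ^ i * R.ι (c i) * R.ι ((σ ^ a) x)
          = R.y ^ i * R.ι (((σ ^ i) x - (σ ^ a) x) * c i) := fun i => by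
        rw [sub_mul, map_sub, mul_sub, ← mul_assoc, rel_pow, mul_comm ((σ ^ a) x), map_mul, map_mul]
        simp only [mul_assoc]
      rwa [Finset.mul_sum, Finset.sum_mul, ← Finset.sum_sub_distrib, Finset.sum_congr rfl fun i _ => e i,
        Finset.sum_insert ha, sub_self, zero_mul, map_zero, mul_zero, zero_add] at h'
    by_cases h1 : (1 : A) ∈ I
    · exact Or.inl h1
    have hzero : ∀ i ∈ s, c i = 0 := fun i hi => by
      obtain ⟨x, hx⟩ := exists_ne hσ (hs i (Finset.mem_insert_of_mem hi)) (hs a (Finset.mem_insert_self a s))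
        (fun e => ha (e ▸ hi))
      exact (mul_eq_zero.1 (((ih _ (fun i hi => hs i (Finset.mem_insert_of_mem hi)) (key x)).resolve_left h1) i hi)
        ).resolve_left (sub_ne_zero.2 hx)
    refine Or.inr fun i hi => ?_
    rcases Finset.mem_insert.1 hi with rfl | hi
    · rw [Finset.sum_insert ha, Finset.sum_eq_zero fun j hj => by rw [hzero j hj, map_zero, mul_zero],
        add_zero] at h
      obtain ⟨u, hu⟩ := hy.pow i
      by_contra hc
      apply h1
      have h2 := I.mul_mem_left (R.ι (c i)⁻¹ * ↑u⁻¹) _ h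
      rwa [mul_assoc, ← mul_assoc (↑u⁻¹ : A), ← hu, Units.inv_mul, one_mul, ← map_mul, inv_mul_cancel₀ hc,
        map_one] at h2
    · exact hzero i hi

/-- The combination map. -/
noncomputable def comb : (Fin (Module.finrank k K) → K) →ₗ[k] A :=
  ∑ i : Fin (Module.finrank k K), (LinearMap.mulLeft k (R.y ^ (i : ℕ))) ∘ₗ R.ι.toLinearMap ∘ₗ LinearMap.proj i

theorem comb_apply (c : Fin (Module.finrank k K) → K) :
    R.comb c = ∑ i : Fin (Module.finrank k K), R.y ^ (i : ℕ) * R.ι (c i) := by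
  simp [comb]

theorem comb_single (i : Fin (Module.finrank k K)) (c : K) :
    R.comb (Pi.single i c) = R.y ^ (i : ℕ) * R.ι c := by
  classical
  rw [comb_apply, Finset.sum_eq_single i (fun j _ hj => by simp [hj]) (by simp)]
  simp

theorem comb_injective (hσ : ∀ τ : K ≃ₐ[k] K, τ ∈ Subgroup.zpowers σ) [Nontrivial A] (hy : IsUnit R.y) :
    Function.Injective R.comb := by
  classical
  refine (injective_iff_map_eq_zero _).2 fun c hc => ?_
  let c' : ℕ → K := fun i => if h : i < Module.finrank k K then c ⟨i, h⟩ else 0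
  have h : (∑ i ∈ Finset.range (Module.finrank k K), R.y ^ i * R.ι (c' i)) ∈ (⊥ : TwoSidedIdeal A) := by
    rw [TwoSidedIdeal.mem_bot, ← Fin.sum_univ_eq_sum_range (fun i => R.y ^ i * R.ι (c' i)), ← hc, comb_apply]
    simp [c']
  funext i
  have := ((R.one_mem_or hσ hy ⊥ _ c' (fun i hi => Finset.mem_range.1 hi) h).resolve_left
    (by rw [TwoSidedIdeal.mem_bot]; exact one_ne_zero)) i (Finset.mem_range.2 i.2)
  simpa [c'] using this

theorem comb_commutator (c : Fin (Module.finrank k K) → K) (x : K) :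
    R.ι x * R.comb c - R.comb c * R.ι x = R.comb fun i => ((σ ^ (i : ℕ)) x - x) * c i := by
  rw [comb_apply, comb_apply, Finset.mul_sum, Finset.sum_mul, ← Finset.sum_sub_distrib]
  refine Finset.sum_congr rfl fun i _ => ?_
  rw [sub_mul, map_sub, mul_sub, ← mul_assoc, rel_pow, mul_comm x, map_mul, map_mul]
  simp only [mul_assoc]

end Rel

/-- A cyclic algebra datum: a relation with invertible element in dimension `[K:k]²`. -/
structure Gen (σ : K ≃ₐ[k] K) (A : Type w) [Ring A] [Algebra k A] extends Rel σ A where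
  unit : IsUnit y
  dim : Module.finrank k A = Module.finrank k K ^ 2

namespace Gen

variable [FiniteDimensional k K] [IsGalois k K] {σ : K ≃ₐ[k] K} {A : Type w} [Ring A] [Algebra k A]

theorem dim_pos (R : Gen σ A) : 0 < Module.finrank k A := by
  rw [R.dim]; exact pow_pos Module.finrank_pos 2

theorem finite (R : Gen σ A) : Module.Finite k A := Module.finite_of_finrank_pos R.dim_pos

theorem nontrivial (R : Gen σ A) : Nontrivial A := Module.nontrivial_of_finrank_pos R.dim_pos

variable (R : Gen σ A) (hσ : ∀ τ : K ≃ₐ[k] K, τ ∈ Subgroup.zpowers σ)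
include R hσ

theorem comb_bijective : Function.Bijective R.comb := by
  haveI := R.nontrivial; haveI := R.finite
  have hi := R.comb_injective hσ R.unit
  exact ⟨hi, (LinearMap.injective_iff_surjective_of_finrank_eq_finrank (by
    rw [R.dim, Module.finrank_pi_fintype]; simp [sq])).1 hi⟩

theorem adjoin_eq_top : Algebra.adjoin k (Set.range R.ι ∪ {R.y}) = ⊤ := by
  rw [eq_top_iff]
  rintro z -
  obtain ⟨c, rfl⟩ := (R.comb_bijective hσ).2 z
  rw [Rel.comb_apply]
  refine sum_mem fun i _ => mul_mem (pow_mem ?_ _) ?_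
  · exact Algebra.subset_adjoin (Set.mem_union_right _ (Set.mem_singleton _))
  · exact Algebra.subset_adjoin (Set.mem_union_left _ (Set.mem_range_self _))

theorem exists_of_commute {z : A} (hz : ∀ x, R.ι x * z = z * R.ι x) : ∃ c, z = R.ι c := by
  haveI := R.nontrivial
  obtain ⟨c, rfl⟩ := (R.comb_bijective hσ).2 z
  let i₀ : Fin (Module.finrank k K) := ⟨0, Module.finrank_pos⟩
  have h : ∀ i ≠ i₀, c i = 0 := fun i hi => by
    obtain ⟨x, hx⟩ := exists_ne hσ i.2 (Module.finrank_pos (R := k) (M := K))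
      (fun e => hi (Fin.ext e))
    have := R.comb_commutator c x
    rw [hz, sub_self] at this
    have h0 := congrFun ((R.comb_bijective hσ).1 (this.symm.trans (map_zero R.comb).symm)) i
    exact (mul_eq_zero.1 h0).resolve_left (sub_ne_zero.2 (by simpa using hx))
  refine ⟨c i₀, ?_⟩
  rw [Rel.comb_apply, Finset.sum_eq_single i₀ (fun j _ hj => by rw [h j hj, map_zero, mul_zero]) (by simp)]
  simp [i₀]

theorem exists_scalar {z : A} (hz : ∀ x, R.ι x * z = z * R.ι x) (hy : R.y * z = z * R.y) :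
    ∃ r : k, z = algebraMap k A r := by
  haveI := R.nontrivial
  obtain ⟨c, rfl⟩ := R.exists_of_commute hσ hz
  rw [R.rel] at hy
  have := R.ι.toRingHom.injective (R.unit.mul_left_cancel hy)
  obtain ⟨r, hr⟩ := mem_range_of_fixed hσ this.symm
  exact ⟨r, by rw [← hr, AlgHom.commutes]⟩

theorem pow_scalar : ∃ b : k, R.y ^ Module.finrank k K = algebraMap k A b :=
  R.exists_scalar hσ (fun x => by rw [Rel.rel_pow, pow_finrank hσ]; rfl) (Commute.self_pow R.y _)

theorem isCentral : Algebra.IsCentral k A :=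
  ⟨fun z hz => by
    obtain ⟨r, rfl⟩ := R.exists_scalar hσ (fun x => Subalgebra.mem_center_iff.1 hz _)
      (Subalgebra.mem_center_iff.1 hz _)
    exact Algebra.mem_bot.2 ⟨r, rfl⟩⟩

theorem isSimple : IsSimpleRing A := by
  classical
  haveI := R.nontrivial
  refine IsSimpleRing.of_eq_bot_or_eq_top fun I => ?_
  by_cases h1 : (1 : A) ∈ I
  · exact Or.inr (I.one_mem_iff.1 h1)
  refine Or.inl (eq_bot_iff.2 fun z hz => ?_)
  obtain ⟨c, rfl⟩ := (R.comb_bijective hσ).2 z
  let c' : ℕ → K := fun i => if h : i < Module.finrank k K then c ⟨i, h⟩ else 0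
  have h : (∑ i ∈ Finset.range (Module.finrank k K), R.y ^ i * R.ι (c' i)) ∈ I := by
    rw [← Fin.sum_univ_eq_sum_range (fun i => R.y ^ i * R.ι (c' i))]
    simpa [c', Rel.comb_apply] using hz
  have h0 : c = 0 := funext fun i => by
    simpa [c'] using ((R.one_mem_or hσ R.unit I _ c' (fun i hi => Finset.mem_range.1 hi) h).resolve_left h1)
      i (Finset.mem_range.2 i.2)
  rw [TwoSidedIdeal.mem_bot, h0, map_zero]

theorem splits : Curves.Splits k A K := by
  haveI := R.finite; haveI := R.isCentral hσ; haveI := R.isSimple hσ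
  exact CSALib.splits_of_algHom (k := k) K R.ι R.dim

omit R hσ

theorem isCyclicAlg (R : Gen σ A) (hσ : ∀ τ : K ≃ₐ[k] K, τ ∈ Subgroup.zpowers σ) {b : kˣ}
    (hb : R.y ^ Module.finrank k K = algebraMap k A (b : k)) : CSAGal.IsCyclicAlg k K σ b A :=
  ⟨R.ι, R.y, hb, R.rel, R.adjoin_eq_top hσ, Module.finrank_pos, R.dim⟩

theorem of_isCyclicAlg {b : kˣ} (h : CSAGal.IsCyclicAlg k K σ b A) :
    ∃ R : Gen σ A, R.y ^ Module.finrank k K = algebraMap k A (b : k) := by
  obtain ⟨ι, y, hb, hrel, -, hm, hdim⟩ := h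
  exact ⟨⟨⟨ι, y, hrel⟩, (isUnit_pow_iff hm.ne').1 (hb ▸ b.isUnit.map (algebraMap k A)), hdim⟩, hb⟩

end Gen

section Lift

variable [FiniteDimensional k K] [IsGalois k K] {σ : K ≃ₐ[k] K} (hσ : ∀ τ : K ≃ₐ[k] K, τ ∈ Subgroup.zpowers σ)
  {A : Type w} [Ring A] [Algebra k A] {B : Type x} [Ring B] [Algebra k B] (b : k)
include hσ

theorem Rel.pow_mem_range (R : Rel σ A) (hb : R.y ^ Module.finrank k K = algebraMap k A b) (n : ℕ) (c : K) :
    R.y ^ n * R.ι c = R.comb (Pi.single ⟨n % Module.finrank k K, Nat.mod_lt _ Module.finrank_pos⟩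
      (algebraMap k K (b ^ (n / Module.finrank k K)) * c)) := by
  have _ := hσ
  rw [R.comb_single]
  conv_lhs => rw [← Nat.mod_add_div n (Module.finrank k K), pow_add, pow_mul, hb]
  rw [map_mul, AlgHom.commutes, ← map_pow, mul_assoc]

/-- The universal property. -/
theorem exists_lift (R : Gen σ A) (hb : R.y ^ Module.finrank k K = algebraMap k A b) (S : Rel σ B)
    (hb' : S.y ^ Module.finrank k K = algebraMap k B b) :
    ∃ f : A →ₐ[k] B, (∀ x, f (R.ι x) = S.ι x) ∧ f R.y = S.y ∧ f.toLinearMap ∘ₗ R.comb = S.comb := by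
  classical
  let e := LinearEquiv.ofBijective R.comb (R.comb_bijective hσ)
  let f : A →ₗ[k] B := S.comb ∘ₗ e.symm.toLinearMap
  have hf : ∀ c, f (R.comb c) = S.comb c := fun c => by
    show S.comb (e.symm (e c)) = _
    rw [e.symm_apply_apply]
  have hterm : ∀ n c, f (R.y ^ n * R.ι c) = S.y ^ n * S.ι c := fun n c => by
    rw [R.toRel.pow_mem_range hσ b hb, hf, ← S.pow_mem_range hσ b hb']
  have hι : ∀ x, f (R.ι x) = S.ι x := fun x => by simpa using hterm 0 x
  have h1 : f 1 = 1 := by simpa using hι 1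
  have hmul : ∀ z z', f (z * z') = f z * f z' := fun z z' => by
    obtain ⟨c, rfl⟩ := (R.comb_bijective hσ).2 z
    obtain ⟨d, rfl⟩ := (R.comb_bijective hσ).2 z'
    simp only [Rel.comb_apply, Finset.sum_mul, Finset.mul_sum, map_sum, Rel.term_mul, hterm]
  refine ⟨AlgHom.ofLinearMap f h1 hmul, hι, ?_, LinearMap.ext hf⟩
  show f R.y = S.y
  simpa using hterm 1 1

/-- Cyclic algebras with the same invariant are isomorphic. -/
theorem nonempty_algEquiv (R : Gen σ A) (hb : R.y ^ Module.finrank k K = algebraMap k A b) (S : Gen σ B)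
    (hb' : S.y ^ Module.finrank k K = algebraMap k B b) : Nonempty (A ≃ₐ[k] B) := by
  obtain ⟨f, -, -, hf⟩ := exists_lift hσ b R hb S.toRel hb'
  refine ⟨AlgEquiv.ofBijective f ?_⟩
  have h : ⇑f ∘ ⇑R.comb = ⇑S.comb := congrArg (fun g : _ →ₗ[k] B => ⇑g) hf
  refine ((R.comb_bijective hσ).of_comp_iff f).1 ?_
  rw [h]
  exact S.comb_bijective hσ

end Lift

end Groth.Agent.BrauerClassLib.Cyclic
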