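import Groth.Agent.BrauerClassLib.Cyclic
import Groth.Agent.BrauerClassLib.Period
import Mathlib

/-!
# The norm criterion and products of cyclic algebras
-/

open scoped TensorProduct

universe u v w x

namespace Groth.Agent.BrauerClassLib.Cyclic

variable {k : Type u} [Field k] {K : Type v} [Field K] [Algebra k K]

namespace Gen

variable {σ : K ≃ₐ[k] K} {A : Type w} [Ring A] [Algebra k A] {B : Type x} [Ring B] [Algebra k B]

/-- Transport along an isomorphism. -/
def map (R : Gen σ A) (e : A ≃ₐ[k] B) : Gen σ B where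
  ι := e.toAlgHom.comp R.ι
  y := e R.y
  rel x := by
    show e (R.ι x) * e R.y = e R.y * e (R.ι (σ x))
    rw [← map_mul, R.rel, map_mul]
  unit := R.unit.map e
  dim := by rw [← e.toLinearEquiv.finrank_eq, R.dim]

theorem map_y (R : Gen σ A) (e : A ≃ₐ[k] B) : (R.map e).y = e R.y := rfl

theorem map_pow {R : Gen σ A} {n : ℕ} {b : k} (h : R.y ^ n = algebraMap k A b) (e : A ≃ₐ[k] B) :
    (R.map e).y ^ n = algebraMap k B b := by
  rw [map_y, ← _root_.map_pow, h, AlgEquiv.commutes]

end Gen

/-- Conjugation by a unit. -/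
def conjEquiv {A : Type w} [Ring A] [Algebra k A] (u : Aˣ) : A ≃ₐ[k] A where
  toFun z := ↑u⁻¹ * z * u
  invFun z := u * z * ↑u⁻¹
  left_inv z := by simp [mul_assoc]
  right_inv z := by simp [mul_assoc]
  map_mul' z z' := by simp [mul_assoc]
  map_add' z z' := by rw [mul_add, add_mul]
  commutes' r := by rw [← Algebra.commutes r (↑u⁻¹ : A), mul_assoc, Units.inv_mul, mul_one]

/-- Two commuting simple algebras of complementary dimension. -/
theorem mulMap_spec {P : Type w} [Ring P] [Algebra k P] [IsSimpleRing P] [Module.Finite k P]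
    {Q : Type w} [Ring Q] [Algebra k Q] [IsSimpleRing Q] [Algebra.IsCentral k Q] [Module.Finite k Q]
    {T : Type w} [Ring T] [Algebra k T] [Nontrivial T] [Module.Finite k T] [Algebra.IsCentral k T]
    (f : P →ₐ[k] T) (g : Q →ₐ[k] T) (h : ∀ p q, Commute (f p) (g q))
    (hd : Module.finrank k P * Module.finrank k Q = Module.finrank k T) :
    Algebra.IsCentral k P ∧ cls (k := k) T = cls P * cls Q := by
  haveI : IsSimpleRing (P ⊗[k] Q) := CSALib.isSimpleRing_tensor' Q P
  let μ : P ⊗[k] Q →ₐ[k] T := Algebra.TensorProduct.lift f g h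
  have hμ : Function.Injective μ := μ.toRingHom.injective
  have hdim : Module.finrank k (P ⊗[k] Q) = Module.finrank k T := by rw [Module.finrank_tensorProduct, hd]
  let e := AlgEquiv.ofBijective μ
    ⟨hμ, (LinearMap.injective_iff_surjective_of_finrank_eq_finrank (f := μ.toLinearMap) hdim).1 hμ⟩
  haveI : Algebra.IsCentral k (P ⊗[k] Q) := isCentral_congr e.symm
  exact ⟨Algebra.IsCentral.left_of_tensor_of_field k P Q, by rw [← cls_mul, cls_congr e]⟩

variable [FiniteDimensional k K] [IsGalois k K] {σ : K ≃ₐ[k] K}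

theorem csa_end : Algebra.IsCentral k (Module.End k K) ∧ IsSimpleRing (Module.End k K) := by
  haveI : Nonempty (Fin (Module.finrank k K)) := ⟨⟨0, Module.finrank_pos⟩⟩
  exact ⟨isCentral_congr (algEquivMatrix (Module.finBasis k K)).symm,
    IsSimpleRing.of_ringEquiv (algEquivMatrix (Module.finBasis k K)).symm.toRingEquiv inferInstance⟩

theorem cls_end : cls (k := k) (Module.End k K) = 1 :=
  cls_of_equiv_matrix Module.finrank_pos.ne' (algEquivMatrix (Module.finBasis k K))

/-- The split model: `v ↦ c σ⁻¹ v` on `K`. -/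
def endRel (σ : K ≃ₐ[k] K) (c : K) : Rel σ (Module.End k K) where
  ι := Algebra.lmul k K
  y := LinearMap.mulLeft k c ∘ₗ σ.symm.toLinearMap
  rel x := LinearMap.ext fun v => by
    show x * (c * σ.symm v) = c * σ.symm (σ x * v)
    rw [map_mul, σ.symm_apply_apply]; ring

theorem endRel_pow_apply (c : K) (n : ℕ) (v : K) :
    ((endRel σ c).y ^ n) v = (∏ i ∈ Finset.range n, (σ⁻¹ ^ i) c) * (σ⁻¹ ^ n) v := by
  induction n generalizing v with
  | zero => simp
  | succ n ih =>
    rw [pow_succ', Module.End.mul_apply, ih, Finset.prod_range_succ']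
    show c * σ.symm (_ * _) = _
    rw [map_mul, map_prod, pow_succ' σ⁻¹]
    simp only [pow_succ' σ⁻¹, AlgEquiv.mul_apply, pow_zero, AlgEquiv.one_apply]
    rw [← AlgEquiv.aut_inv]
    ring

variable (hσ : ∀ τ : K ≃ₐ[k] K, τ ∈ Subgroup.zpowers σ)
include hσ

theorem endRel_pow (c : K) :
    (endRel σ c).y ^ Module.finrank k K = algebraMap k (Module.End k K) (Algebra.norm k c) := by
  have h : ∀ τ : K ≃ₐ[k] K, τ ∈ Subgroup.zpowers σ⁻¹ := fun τ => by
    rw [Subgroup.zpowers_inv]; exact hσ τ
  refine LinearMap.ext fun v => ?_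
  rw [endRel_pow_apply, prod_pow_apply h, pow_finrank h, Module.algebraMap_end_apply, Algebra.smul_def]
  rfl

theorem exists_endGen {c : K} (hc : c ≠ 0) :
    ∃ R : Gen σ (Module.End k K), R.y ^ Module.finrank k K = algebraMap k _ (Algebra.norm k c) := by
  refine ⟨⟨endRel σ c, (isUnit_pow_iff (Module.finrank_pos (R := k) (M := K)).ne').1 ?_, ?_⟩, endRel_pow hσ c⟩
  · rw [endRel_pow hσ c]
    exact (Algebra.norm_ne_zero_iff.2 hc).isUnit.map (algebraMap k (Module.End k K))
  · rw [Module.finrank_linearMap, sq]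

/-- A cyclic algebra splits iff its invariant is a norm. -/
theorem Gen.splits_iff {A : Type w} [Ring A] [Algebra k A] (R : Gen σ A) (b : kˣ)
    (hb : R.y ^ Module.finrank k K = algebraMap k A (b : k)) :
    Curves.Splits k A k ↔ ∃ x : K, Algebra.norm k x = (b : k) := by
  haveI := R.finite; haveI := R.isCentral hσ; haveI := R.isSimple hσ
  haveI := (csa_end (k := k) (K := K)).1
  haveI := (csa_end (k := k) (K := K)).2
  constructor
  · rintro ⟨n, -, ⟨e⟩⟩
    have e' : A ≃ₐ[k] Matrix (Fin n) (Fin n) k := (Algebra.TensorProduct.lid k A).symm.trans e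
    have hn : n = Module.finrank k K := by
      have := e'.toLinearEquiv.finrank_eq
      rw [R.dim, Module.finrank_matrix] at this
      simp only [Fintype.card_fin, Module.finrank_self, mul_one] at this
      exact Nat.pow_left_injective two_ne_zero ((sq n).trans this.symm)
    subst hn
    let ψ : A ≃ₐ[k] Module.End k K := e'.trans (algEquivMatrix (Module.finBasis k K)).symm
    obtain ⟨u, hu⟩ := CSALib.exists_conj (ψ.toAlgHom.comp R.ι) (Algebra.lmul k K)
    let R' := R.map (ψ.trans (conjEquiv (k := k) u))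
    have hι : ∀ x, R'.ι x = Algebra.lmul k K x := fun x => by
      show conjEquiv (k := k) u (ψ.toAlgHom.comp R.ι x) = _
      rw [hu]
      simp [conjEquiv, mul_assoc]
    have hy : R'.y = (endRel σ (R'.y 1)).y := LinearMap.ext fun v => by
      have := LinearMap.congr_fun (R'.rel (σ.symm v)) 1
      rw [σ.apply_symm_apply, hι, hι] at this
      show _ = R'.y 1 * σ.symm v
      simpa [mul_comm (R'.y 1)] using this.symm
    have h := Gen.map_pow hb (ψ.trans (conjEquiv (k := k) u))
    change R'.y ^ _ = _ at h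
    rw [hy, endRel_pow hσ] at h
    exact ⟨R'.y 1, FaithfulSMul.algebraMap_injective k (Module.End k K) h⟩
  · rintro ⟨x, hx⟩
    have hx0 : x ≠ 0 := fun h => b.ne_zero (by rw [← hx, h, Algebra.norm_zero])
    obtain ⟨S, hS⟩ := exists_endGen hσ hx0
    rw [hx] at hS
    obtain ⟨f⟩ := nonempty_algEquiv hσ (b : k) R hb S hS
    exact splits_of_cls_eq_one ((cls_congr f).trans cls_end)

omit hσ

/-- The splitting of `K ⊗ K`. -/
noncomputable def piMap : K ⊗[k] K →ₐ[K] ((K ≃ₐ[k] K) → K) :=
  Algebra.TensorProduct.lift (Algebra.ofId K _) (Pi.algHom k _ fun τ => (τ : K →ₐ[k] K))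
    fun _ _ => Commute.all _ _

theorem piMap_tmul (a b : K) (τ : K ≃ₐ[k] K) : piMap (a ⊗ₜ[k] b) τ = a * τ b := by
  simp [piMap, Algebra.ofId_apply]

theorem piMap_bijective : Function.Bijective (piMap (k := k) (K := K)) := by
  classical
  have hsurj : LinearMap.range (piMap (k := k) (K := K)).toLinearMap = ⊤ := by
    by_contra h
    obtain ⟨f, hf, hle⟩ := Submodule.exists_le_ker_of_lt_top _ (lt_top_iff_ne_top.2 h)
    apply hf
    have hli : LinearIndependent K fun τ : K ≃ₐ[k] K => ((τ : K →* K) : K → K) :=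
      (linearIndependent_monoidHom K K).comp _ fun τ τ' h =>
        AlgEquiv.ext fun x => DFunLike.congr_fun h x
    have h0 := Fintype.linearIndependent_iff.1 hli (fun τ => f (Pi.single τ 1)) (funext fun b => by
      have h1 : f (piMap (1 ⊗ₜ[k] b)) = 0 := LinearMap.mem_ker.1 (hle ⟨1 ⊗ₜ[k] b, rfl⟩)
      rw [← Finset.univ_sum_single (piMap ((1 : K) ⊗ₜ[k] b)), map_sum] at h1
      rw [Finset.sum_apply, Pi.zero_apply]
      refine Eq.trans (Finset.sum_congr rfl fun τ _ => ?_) h1
      rw [piMap_tmul, one_mul, show (Pi.single τ (τ b) : (K ≃ₐ[k] K) → K) = τ b • Pi.single τ 1 from by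
        rw [← Pi.single_smul', smul_eq_mul, mul_one], map_smul]
      simp [mul_comm])
    refine LinearMap.pi_ext fun τ x => ?_
    rw [show (Pi.single τ x : (K ≃ₐ[k] K) → K) = x • Pi.single τ 1 from by
      rw [← Pi.single_smul', smul_eq_mul, mul_one], map_smul, h0 τ]
    simp
  have hs : Function.Surjective (piMap (k := k) (K := K)).toLinearMap := LinearMap.range_eq_top.1 hsurj
  refine ⟨(LinearMap.injective_iff_surjective_of_finrank_eq_finrank ?_).2 hs, hs⟩
  rw [Module.finrank_baseChange, Module.finrank_pi, ← Nat.card_eq_fintype_card, IsGalois.card_aut_eq_finrank]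

include hσ

theorem piMap_map (t : K ⊗[k] K) (τ : K ≃ₐ[k] K) :
    piMap (Algebra.TensorProduct.map (σ : K →ₐ[k] K) (σ : K →ₐ[k] K) t) τ = σ (piMap t τ) := by
  induction t using TensorProduct.induction_on with
  | zero => simp
  | add p q hp hq => simp only [map_add, Pi.add_apply, hp, hq]
  | tmul a b =>
    obtain ⟨z, rfl⟩ := Subgroup.mem_zpowers_iff.1 (hσ τ)
    rw [Algebra.TensorProduct.map_tmul, piMap_tmul, piMap_tmul, map_mul]
    show σ a * (σ ^ z * σ) b = σ a * (σ * σ ^ z) b
    rw [(Commute.self_zpow σ z).eq]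

/-- The product of two cyclic algebras. -/
theorem exists_mul {A : Type w} [Ring A] [Algebra k A] [Module.Finite k A]
    {B : Type x} [Ring B] [Algebra k B] [Module.Finite k B] (R : Gen σ A) (R' : Gen σ B) (b b' : kˣ)
    (hb : R.y ^ Module.finrank k K = algebraMap k A (b : k))
    (hb' : R'.y ^ Module.finrank k K = algebraMap k B (b' : k)) :
    ∃ (C : FAlg k) (S : Gen σ C.carrier),
      S.y ^ Module.finrank k K = algebraMap k C.carrier ((b * b' : kˣ) : k) ∧
      cls (k := k) C.carrier = cls A * cls B := by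
  classical
  haveI := R.isCentral hσ; haveI := R.isSimple hσ
  haveI := R'.isCentral hσ; haveI := R'.isSimple hσ
  obtain ⟨hT₁, hT₂⟩ := csa_tensor (k := k) A B
  haveI := R.nontrivial; haveI := R'.nontrivial
  let S₀ : Rel σ (A ⊗[k] B) :=
    { ι := Algebra.TensorProduct.includeLeft.comp R.ι
      y := R.y ⊗ₜ[k] R'.y
      rel := fun x => by
        show (R.ι x ⊗ₜ[k] (1 : B)) * (R.y ⊗ₜ[k] R'.y) = (R.y ⊗ₜ[k] R'.y) * (R.ι (σ x) ⊗ₜ[k] (1 : B))
        rw [Algebra.TensorProduct.tmul_mul_tmul, Algebra.TensorProduct.tmul_mul_tmul, R.rel, one_mul, mul_one] }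
  have hpow : S₀.y ^ Module.finrank k K = algebraMap k (A ⊗[k] B) ((b * b' : kˣ) : k) := by
    show (R.y ⊗ₜ[k] R'.y) ^ _ = _
    rw [Algebra.TensorProduct.tmul_pow, hb, hb', Algebra.TensorProduct.algebraMap_apply,
      Algebra.algebraMap_eq_smul_one, Algebra.algebraMap_eq_smul_one, Algebra.algebraMap_eq_smul_one,
      TensorProduct.tmul_smul, TensorProduct.smul_tmul', smul_smul, Units.val_mul, mul_comm]
  have hunit : IsUnit S₀.y := (isUnit_pow_iff (Module.finrank_pos (R := k) (M := K)).ne').1 (hpow ▸ (b * b').isUnit.map (algebraMap k (A ⊗[k] B)))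
  let P := LinearMap.range S₀.comb
  have hterm : ∀ n c, S₀.y ^ n * S₀.ι c ∈ P := fun n c =>
    (S₀.pow_mem_range hσ _ hpow n c) ▸ LinearMap.mem_range_self _ _
  let C₀ : Subalgebra k (A ⊗[k] B) := P.toSubalgebra (by simpa using hterm 0 1) fun z z' hz hz' => by
    obtain ⟨c, rfl⟩ := hz
    obtain ⟨d, rfl⟩ := hz'
    simp only [Rel.comb_apply, Finset.sum_mul, Finset.mul_sum, Rel.term_mul]
    exact Submodule.sum_mem _ fun i _ => Submodule.sum_mem _ fun j _ => hterm _ _
  have hιC : ∀ x, S₀.ι x ∈ C₀ := fun x => by simpa [C₀] using hterm 0 x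
  have hyC : S₀.y ∈ C₀ := by simpa [C₀] using hterm 1 1
  let S₁ : Gen σ C₀ :=
    { ι := S₀.ι.codRestrict C₀ hιC
      y := ⟨S₀.y, hyC⟩
      rel := fun x => Subtype.ext (S₀.rel x)
      unit := by
        refine (isUnit_pow_iff (Module.finrank_pos (R := k) (M := K)).ne').1 ?_
        rw [show (⟨S₀.y, hyC⟩ : C₀) ^ Module.finrank k K = algebraMap k C₀ ((b * b' : kˣ) : k) from
          Subtype.ext hpow]
        exact (b * b').isUnit.map (algebraMap k C₀)
      dim := by
        show Module.finrank k P = _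
        rw [← (LinearEquiv.ofInjective _ (S₀.comb_injective hσ hunit)).finrank_eq, Module.finrank_pi_fintype]
        simp [sq] }
  haveI := S₁.isCentral hσ; haveI := S₁.isSimple hσ
  obtain ⟨hs, hd⟩ := CSALib.centralizer_simple_finrank C₀
  haveI := hs
  let C' := Subalgebra.centralizer k (C₀ : Set (A ⊗[k] B))
  have hdC : Module.finrank k C' = Module.finrank k K ^ 2 := by
    rw [S₁.dim, Module.finrank_tensorProduct, R.dim, R'.dim] at hd
    exact Nat.eq_of_mul_eq_mul_left (pow_pos Module.finrank_pos 2) hd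
  -- multiplication and centrality of the centralizer
  haveI : Algebra.IsCentral k (A ⊗[k] B) := hT₁
  obtain ⟨hcen, hclsT⟩ := mulMap_spec (k := k) C'.val C₀.val
    (fun z z' => ((Subalgebra.mem_centralizer_iff k).1 z.2 z'.1 z'.2).symm)
    (by rw [S₁.dim, Module.finrank_tensorProduct, hdC, R.dim, R'.dim])
  haveI := hcen
  -- idempotents
  let g : K ⊗[k] K →ₐ[k] A ⊗[k] B := Algebra.TensorProduct.map R.ι R'.ι
  have hg : Function.Injective g :=
    TensorProduct.map_injective_of_flat_flat R.ι.toLinearMap R'.ι.toLinearMap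
      R.ι.toRingHom.injective R'.ι.toRingHom.injective
  have hgy : ∀ t, g t * S₀.y = S₀.y * g (Algebra.TensorProduct.map (σ : K →ₐ[k] K) (σ : K →ₐ[k] K) t) := by
    intro t
    induction t using TensorProduct.induction_on with
    | zero => simp
    | add p q hp hq => simp only [map_add, add_mul, mul_add, hp, hq]
    | tmul a c =>
      show (R.ι a ⊗ₜ[k] R'.ι c) * (R.y ⊗ₜ[k] R'.y) = (R.y ⊗ₜ[k] R'.y) * (R.ι (σ a) ⊗ₜ[k] R'.ι (σ c))
      rw [Algebra.TensorProduct.tmul_mul_tmul, Algebra.TensorProduct.tmul_mul_tmul, R.rel, R'.rel]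
  choose t ht using fun τ : K ≃ₐ[k] K => (piMap_bijective (k := k) (K := K)).2 (Pi.single τ 1)
  have htσ : ∀ τ, Algebra.TensorProduct.map (σ : K →ₐ[k] K) (σ : K →ₐ[k] K) (t τ) = t τ := fun τ =>
    piMap_bijective.1 (funext fun τ' => by
      rw [piMap_map hσ, ht]
      by_cases h : τ' = τ <;> simp [h])
  have hmem : ∀ τ, g (t τ) ∈ C' := fun τ => by
    refine (Subalgebra.mem_centralizer_iff k).2 fun z hz => ?_
    obtain ⟨c, rfl⟩ := hz
    have hy' : Commute S₀.y (g (t τ)) := ((hgy (t τ)).trans (by rw [htσ])).symm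
    have hι' : ∀ x, Commute (S₀.ι x) (g (t τ)) := fun x => by
      have : S₀.ι x = g (x ⊗ₜ[k] 1) := by simp [g, S₀]
      rw [this]
      exact (Commute.all (x ⊗ₜ[k] (1 : K)) (t τ)).map g
    rw [Rel.comb_apply]
    exact Commute.sum_left _ _ _ fun i _ => (hy'.pow_left _).mul_left (hι' _)
  obtain ⟨r, D, _, _, hr, hDc, hDf, ⟨φ⟩⟩ := exists_div (k := k) C'
  let p : (K ≃ₐ[k] K) → Matrix (Fin r) (Fin r) D := fun τ => φ ⟨g (t τ), hmem τ⟩
  have hp : ∀ τ τ', p τ * p τ' = if τ = τ' then p τ else 0 := fun τ τ' => by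
    have h : t τ * t τ' = if τ = τ' then t τ else 0 := piMap_bijective.1 (by
      rw [map_mul, ht, ht]
      split_ifs with h
      · subst h; rw [ht, ← Pi.single_mul, one_mul]
      · rw [map_zero]; funext i
        by_cases hi : i = τ
        · subst hi; simp [h]
        · simp [hi])
    show φ _ * φ _ = _
    rw [← map_mul]
    split_ifs with h'
    · congr 1
      refine Subtype.ext ?_
      show g (t τ) * g (t τ') = g (t τ)
      rw [← map_mul, h, if_pos h']
    · refine (map_eq_zero_iff φ φ.injective).2 (Subtype.ext ?_)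
      show g (t τ) * g (t τ') = 0
      rw [← map_mul, h, if_neg h', map_zero]
  have hp0 : ∀ τ, ∃ v : Fin r → D, Matrix.vecMul v (p τ) ≠ 0 := fun τ => by
    by_contra h
    push_neg at h
    have h0 : p τ = 0 := Matrix.ext fun i j => by
      simpa [Matrix.single_one_vecMul] using congrFun (h (Pi.single i 1)) j
    have h1 : g (t τ) = 0 := congrArg Subtype.val ((map_eq_zero_iff φ φ.injective).1 h0)
    rw [map_eq_zero_iff g hg] at h1
    have := congrFun (ht τ) τ
    simp [h1] at this
  choose w hw using hp0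
  have hli : LinearIndependent D fun τ => Matrix.vecMul (w τ) (p τ) := by
    refine Fintype.linearIndependent_iff.2 fun c hc τ => ?_
    have h := congrArg (fun v => Matrix.vecMulLinear (p τ) v) hc
    simp only [map_sum, map_smul, map_zero, Matrix.vecMulLinear_apply, Matrix.vecMul_vecMul, hp] at h
    rw [Finset.sum_eq_single τ (fun τ' _ hne => by rw [if_neg hne, Matrix.vecMul_zero, smul_zero]) (by simp),
      if_pos rfl] at h
    exact (smul_eq_zero.1 h).resolve_right (hw τ)
  have hmr : Module.finrank k K ≤ r := by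
    have := hli.fintype_card_le_finrank
    rwa [Module.finrank_fin_fun, ← Nat.card_eq_fintype_card, IsGalois.card_aut_eq_finrank] at this
  have hD1 : Module.finrank k D = 1 := by
    have h := φ.toLinearEquiv.finrank_eq
    rw [hdC, Module.finrank_matrix] at h
    simp only [Fintype.card_fin] at h
    have hd0 : 0 < Module.finrank k D := Module.finrank_pos
    have hm0 : 0 < Module.finrank k K := Module.finrank_pos
    nlinarith [Nat.mul_le_mul hmr hmr, Nat.mul_pos hr hr]
  have hcls : cls (k := k) C' = 1 := by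
    rw [cls_of_equiv_matrix hr.ne' φ, one_def]
    refine (cls_congr (AlgEquiv.ofBijective (Algebra.ofId k D) ⟨(algebraMap k D).injective, ?_⟩)).symm
    exact (LinearMap.injective_iff_surjective_of_finrank_eq_finrank (f := Algebra.linearMap k D)
      (by rw [hD1, Module.finrank_self])).1 (algebraMap k D).injective
  obtain ⟨X, ⟨e⟩⟩ := exists_small (k := k) C₀
  refine ⟨X, S₁.map e, Gen.map_pow (Subtype.ext hpow) e, ?_⟩
  rw [← cls_mul, hclsT, hcls, one_mul, cls_congr e]

end Groth.Agent.BrauerClassLib.Cyclic
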