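import Mathlib

/-!
# Algebra isomorphisms of tensor powers and matrix algebras
-/

open scoped TensorProduct

universe u v w x

namespace Groth.Agent.BrauerClassLib

variable {k : Type u} [CommRing k]

/-- A linear isomorphism out of a tensor product of algebras that is multiplicative on pure tensors. -/
noncomputable def ofTprod {ι : Type*} {A : ι → Type v} [∀ i, Ring (A i)] [∀ i, Algebra k (A i)]
    {S : Type*} [Ring S] [Algebra k S] (e : (⨂[k] i, A i) ≃ₗ[k] S)
    (one : e (PiTensorProduct.tprod k 1) = 1)
    (mul : ∀ x y, e (PiTensorProduct.tprod k (x * y)) =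
      e (PiTensorProduct.tprod k x) * e (PiTensorProduct.tprod k y)) : (⨂[k] i, A i) ≃ₐ[k] S :=
  AlgEquiv.ofBijective
    (PiTensorProduct.liftAlgHom (e.toLinearMap.compMultilinearMap (PiTensorProduct.tprod k)) one mul) (by
      have h : ∀ z, PiTensorProduct.liftAlgHom (e.toLinearMap.compMultilinearMap (PiTensorProduct.tprod k))
          one mul z = e z := fun z => by
        induction z using PiTensorProduct.induction_on with
        | smul_tprod r x => rw [map_smul, map_smul, PiTensorProduct.liftAlgHom_apply]; simp
        | add a b ha hb => rw [map_add, map_add, ha, hb]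
      exact ⟨fun a b hab => e.injective (by rw [← h, ← h, hab]), fun z =>
        ⟨e.symm z, by rw [h, e.apply_symm_apply]⟩⟩)

/-- Reindexing a tensor product of algebras. -/
noncomputable def reindexAlg {ι ι' : Type*} (A : ι → Type v) [∀ i, Ring (A i)] [∀ i, Algebra k (A i)]
    (e : ι ≃ ι') : (⨂[k] i, A i) ≃ₐ[k] (⨂[k] i', A (e.symm i')) :=
  ofTprod (PiTensorProduct.reindex k A e) (by rw [PiTensorProduct.reindex_tprod]; rfl)
    fun x y => by
      rw [PiTensorProduct.reindex_tprod, PiTensorProduct.reindex_tprod, PiTensorProduct.reindex_tprod,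
        PiTensorProduct.tprod_mul_tprod]
      rfl

/-- The empty tensor product is the base ring. -/
noncomputable def isEmptyAlg {ι : Type*} [IsEmpty ι] (A : ι → Type v) [∀ i, Ring (A i)]
    [∀ i, Algebra k (A i)] : (⨂[k] i, A i) ≃ₐ[k] k :=
  ofTprod (PiTensorProduct.isEmptyEquiv ι) (by simp) fun x y => by simp

/-- A tensor product over a point. -/
noncomputable def uniqueAlg {ι : Type*} [Subsingleton ι] (i₀ : ι) (A : ι → Type v) [∀ i, Ring (A i)]
    [∀ i, Algebra k (A i)] : (⨂[k] i, A i) ≃ₐ[k] A i₀ :=
  ofTprod (PiTensorProduct.subsingletonEquiv i₀) (by simp) fun x y => by simp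

/-- Splitting off the first factor, as a linear map. -/
noncomputable def succLin {n : ℕ} (A : Fin (n + 1) → Type v) [∀ i, AddCommGroup (A i)] [∀ i, Module k (A i)] :
    (⨂[k] i, A i) ≃ₗ[k] A 0 ⊗[k] (⨂[k] i : Fin n, A i.succ) :=
  LinearEquiv.ofLinearMap
    (PiTensorProduct.lift (LinearMap.uncurryLeft
      { toFun := fun a => (TensorProduct.mk k (A 0) (⨂[k] i : Fin n, A i.succ) a).compMultilinearMap
          (PiTensorProduct.tprod k)
        map_add' := fun a b => by ext x; simp [TensorProduct.add_tmul]
        map_smul' := fun r a => by ext x; simp [TensorProduct.smul_tmul'] }))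
    (TensorProduct.lift
      { toFun := fun a => PiTensorProduct.lift ((PiTensorProduct.tprod k).curryLeft a)
        map_add' := fun a b => by simp only [map_add]
        map_smul' := fun r a => by simp only [map_smul, RingHom.id_apply] })
    (by
      refine TensorProduct.ext' fun a z => ?_
      induction z using PiTensorProduct.induction_on with
      | smul_tprod r x => simp
      | add x y hx hy => simp only [TensorProduct.tmul_add, map_add, hx, hy])
    (by
      refine PiTensorProduct.ext (MultilinearMap.ext fun x => ?_)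
      simp)

theorem succLin_tprod {n : ℕ} (A : Fin (n + 1) → Type v) [∀ i, AddCommGroup (A i)] [∀ i, Module k (A i)]
    (x : ∀ i, A i) :
    succLin A (PiTensorProduct.tprod k x) = x 0 ⊗ₜ[k] PiTensorProduct.tprod k (Fin.tail x) := by
  simp [succLin]

/-- Splitting off the first factor. -/
noncomputable def succAlg {n : ℕ} (A : Fin (n + 1) → Type v) [∀ i, Ring (A i)] [∀ i, Algebra k (A i)] :
    (⨂[k] i, A i) ≃ₐ[k] A 0 ⊗[k] (⨂[k] i : Fin n, A i.succ) :=
  ofTprod (succLin A) (by rw [succLin_tprod]; rfl) fun x y => by
    rw [succLin_tprod, succLin_tprod, succLin_tprod, Algebra.TensorProduct.tmul_mul_tmul,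
      PiTensorProduct.tprod_mul_tprod]
    rfl

end Groth.Agent.BrauerClassLib
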