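import Groth.Agent.BrauerClassLib.Iso
import Groth.Agent.CSALib.Criterion
import Groth.Prelude.Def_GSzCSA
import Mathlib

/-!
# The monoid of similarity classes of finite dimensional algebras
-/

open scoped TensorProduct

universe u v w x y

namespace Groth.Agent.BrauerClassLib

section Sim

variable (k : Type u) [CommRing k]

/-- Similarity: isomorphic matrix algebras of positive size. -/
def Sim (A : Type v) (B : Type w) [Ring A] [Algebra k A] [Ring B] [Algebra k B] : Prop :=
  ∃ a b : ℕ, a ≠ 0 ∧ b ≠ 0 ∧ Nonempty (Matrix (Fin a) (Fin a) A ≃ₐ[k] Matrix (Fin b) (Fin b) B)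

variable {k} {A : Type v} [Ring A] [Algebra k A] {B : Type w} [Ring B] [Algebra k B]
  {C : Type x} [Ring C] [Algebra k C]

/-- Matrices of matrices. -/
noncomputable def compFin (a b : ℕ) :
    Matrix (Fin a) (Fin a) (Matrix (Fin b) (Fin b) A) ≃ₐ[k] Matrix (Fin (a * b)) (Fin (a * b)) A :=
  (Matrix.compAlgEquiv (Fin a) (Fin b) A k).trans (Matrix.reindexAlgEquiv k A finProdFinEquiv)

theorem Sim.of_algEquiv (e : A ≃ₐ[k] B) : Sim k A B := ⟨1, 1, one_ne_zero, one_ne_zero, ⟨e.mapMatrix⟩⟩

theorem Sim.refl : Sim k A A := Sim.of_algEquiv AlgEquiv.refl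

theorem Sim.symm (h : Sim k A B) : Sim k B A :=
  let ⟨a, b, ha, hb, ⟨e⟩⟩ := h
  ⟨b, a, hb, ha, ⟨e.symm⟩⟩

theorem Sim.trans (h : Sim k A B) (h' : Sim k B C) : Sim k A C := by
  obtain ⟨a, b, ha, hb, ⟨e⟩⟩ := h
  obtain ⟨c, d, hc, hd, ⟨f⟩⟩ := h'
  exact ⟨c * a, b * d, mul_ne_zero hc ha, mul_ne_zero hb hd, ⟨(compFin c a).symm.trans (e.mapMatrix.trans
    ((compFin c b).trans ((Matrix.reindexAlgEquiv k B (finCongr (Nat.mul_comm c b))).trans
      ((compFin b c).symm.trans (f.mapMatrix.trans (compFin b d))))))⟩⟩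

theorem Sim.matrix (n : ℕ) (hn : n ≠ 0) : Sim k (Matrix (Fin n) (Fin n) A) A :=
  ⟨1, n, one_ne_zero, hn, ⟨(compFin 1 n).trans (Matrix.reindexAlgEquiv k A (finCongr (Nat.one_mul n)))⟩⟩

/-- The tensor product of two matrix algebras. -/
noncomputable def matrixTensor (a b : ℕ) :
    Matrix (Fin a) (Fin a) A ⊗[k] Matrix (Fin b) (Fin b) B ≃ₐ[k]
      Matrix (Fin (a * b)) (Fin (a * b)) (A ⊗[k] B) :=
  (Matrix.kroneckerTMulAlgEquiv (Fin a) (Fin b) k k A B).trans
    (Matrix.reindexAlgEquiv k (A ⊗[k] B) finProdFinEquiv)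

theorem Sim.tensor {A' : Type x} [Ring A'] [Algebra k A'] {B' : Type y} [Ring B'] [Algebra k B']
    (h : Sim k A A') (h' : Sim k B B') : Sim k (A ⊗[k] B) (A' ⊗[k] B') := by
  obtain ⟨a, b, ha, hb, ⟨e⟩⟩ := h
  obtain ⟨c, d, hc, hd, ⟨f⟩⟩ := h'
  exact ⟨a * c, b * d, mul_ne_zero ha hc, mul_ne_zero hb hd,
    ⟨(matrixTensor (k := k) (A := A) (B := B) a c).symm.trans
      ((Algebra.TensorProduct.congr e f).trans (matrixTensor (k := k) (A := A') (B := B') b d))⟩⟩

end Sim

variable (k : Type u) [Field k]

/-- Finite dimensional algebras with carrier in the universe of the field. -/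
structure FAlg where
  carrier : Type u
  [ring : Ring carrier]
  [alg : Algebra k carrier]
  [fin : Module.Finite k carrier]

attribute [instance] FAlg.ring FAlg.alg FAlg.fin

instance fAlgSetoid : Setoid (FAlg k) :=
  ⟨fun A B => Sim k A.carrier B.carrier,
    ⟨fun _ => Sim.refl, fun h => h.symm, fun h h' => h.trans h'⟩⟩

/-- Similarity classes of finite dimensional algebras. -/
def Br : Type (u + 1) := Quotient (fAlgSetoid k)

variable {k}

theorem exists_small (A : Type v) [Ring A] [Algebra k A] [Module.Finite k A] :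
    ∃ X : FAlg k, Nonempty (A ≃ₐ[k] X.carrier) := by
  let f : A →ₐ[k] Matrix (Fin (Module.finrank k A)) (Fin (Module.finrank k A)) k :=
    (algEquivMatrix (Module.finBasis k A)).toAlgHom.comp (Algebra.lmul k A)
  have hf : Function.Injective f :=
    (algEquivMatrix (Module.finBasis k A)).injective.comp Algebra.lmul_injective
  haveI : Module.Finite k f.range := Module.Finite.equiv (AlgEquiv.ofInjective f hf).toLinearEquiv
  exact ⟨⟨f.range⟩, ⟨AlgEquiv.ofInjective f hf⟩⟩

/-- The class of a finite dimensional algebra. -/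
noncomputable def cls (A : Type v) [Ring A] [Algebra k A] [Module.Finite k A] : Br k :=
  Quotient.mk _ (exists_small (k := k) A).choose

theorem cls_mk (X : FAlg k) : cls X.carrier = Quotient.mk _ X :=
  Quotient.sound (Sim.of_algEquiv (exists_small (k := k) X.carrier).choose_spec.some.symm)

theorem cls_eq_iff {A : Type v} [Ring A] [Algebra k A] [Module.Finite k A]
    {B : Type w} [Ring B] [Algebra k B] [Module.Finite k B] : cls (k := k) A = cls B ↔ Sim k A B := by
  obtain ⟨eA⟩ := (exists_small (k := k) A).choose_spec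
  obtain ⟨eB⟩ := (exists_small (k := k) B).choose_spec
  constructor
  · intro h
    exact (Sim.of_algEquiv eA).trans ((Quotient.exact h : Sim k _ _).trans (Sim.of_algEquiv eB).symm)
  · intro h
    exact Quotient.sound ((Sim.of_algEquiv eA).symm.trans (h.trans (Sim.of_algEquiv eB)))

theorem cls_congr {A : Type v} [Ring A] [Algebra k A] [Module.Finite k A]
    {B : Type w} [Ring B] [Algebra k B] [Module.Finite k B] (e : A ≃ₐ[k] B) : cls (k := k) A = cls B :=
  cls_eq_iff.2 (Sim.of_algEquiv e)

noncomputable instance : One (Br k) := ⟨cls k⟩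

noncomputable instance : Mul (Br k) :=
  ⟨Quotient.map₂ (fun X Y => ⟨X.carrier ⊗[k] Y.carrier⟩) fun _ _ h _ _ h' => h.tensor h'⟩

theorem cls_mul (A : Type v) [Ring A] [Algebra k A] [Module.Finite k A]
    (B : Type w) [Ring B] [Algebra k B] [Module.Finite k B] :
    cls (k := k) (A ⊗[k] B) = cls A * cls B := by
  obtain ⟨eA⟩ := (exists_small (k := k) A).choose_spec
  obtain ⟨eB⟩ := (exists_small (k := k) B).choose_spec
  exact (cls_congr (Algebra.TensorProduct.congr eA eB)).trans
    (cls_mk (⟨(exists_small (k := k) A).choose.carrier ⊗[k] (exists_small (k := k) B).choose.carrier⟩ : FAlg k))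

theorem one_def : (1 : Br k) = cls k := rfl

theorem exists_eq_cls (a : Br k) : ∃ X : FAlg k, a = cls X.carrier := by
  induction a using Quotient.inductionOn with
  | h X => exact ⟨X, (cls_mk X).symm⟩

noncomputable instance : CommMonoid (Br k) where
  mul_assoc a b c := by
    obtain ⟨X, rfl⟩ := exists_eq_cls a
    obtain ⟨Y, rfl⟩ := exists_eq_cls b
    obtain ⟨Z, rfl⟩ := exists_eq_cls c
    rw [← cls_mul, ← cls_mul, ← cls_mul, ← cls_mul]
    exact cls_congr (Algebra.TensorProduct.assoc k k k _ _ _)
  one_mul a := by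
    obtain ⟨X, rfl⟩ := exists_eq_cls a
    rw [one_def, ← cls_mul]
    exact cls_congr (Algebra.TensorProduct.lid k _)
  mul_one a := by
    obtain ⟨X, rfl⟩ := exists_eq_cls a
    rw [one_def, ← cls_mul]
    exact cls_congr (Algebra.TensorProduct.rid k k _)
  mul_comm a b := by
    obtain ⟨X, rfl⟩ := exists_eq_cls a
    obtain ⟨Y, rfl⟩ := exists_eq_cls b
    rw [← cls_mul, ← cls_mul]
    exact cls_congr (Algebra.TensorProduct.comm k _ _)

theorem cls_matrix {A : Type v} [Ring A] [Algebra k A] [Module.Finite k A] {n : ℕ} (hn : n ≠ 0) :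
    cls (k := k) (Matrix (Fin n) (Fin n) A) = cls A :=
  cls_eq_iff.2 (Sim.matrix n hn)

theorem cls_of_equiv_matrix {A : Type v} [Ring A] [Algebra k A] [Module.Finite k A]
    {D : Type w} [Ring D] [Algebra k D] [Module.Finite k D] {n : ℕ} (hn : n ≠ 0)
    (e : A ≃ₐ[k] Matrix (Fin n) (Fin n) D) : cls (k := k) A = cls D :=
  (cls_congr e).trans (cls_matrix hn)

instance finite_piTensor {ι : Type*} [Finite ι] (A : ι → Type v) [∀ i, Ring (A i)] [∀ i, Algebra k (A i)]
    [∀ i, Module.Finite k (A i)] : Module.Finite k (⨂[k] i, A i) :=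
  Module.Finite.of_basis (Basis.piTensorProduct fun i => Module.finBasis k (A i))

theorem finrank_piTensor {ι : Type*} [Fintype ι] (A : ι → Type v) [∀ i, Ring (A i)] [∀ i, Algebra k (A i)]
    [∀ i, Module.Finite k (A i)] : Module.finrank k (⨂[k] i, A i) = ∏ i, Module.finrank k (A i) := by
  classical
  rw [Module.finrank_eq_card_basis (Basis.piTensorProduct fun i => Module.finBasis k (A i)),
    Fintype.card_pi]
  simp

theorem cls_pi_fin : ∀ {n : ℕ} (A : Fin n → Type v) [∀ i, Ring (A i)] [∀ i, Algebra k (A i)]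
    [∀ i, Module.Finite k (A i)], cls (k := k) (⨂[k] i, A i) = ∏ i, cls (k := k) (A i) := by
  intro n
  induction n with
  | zero =>
    intro A _ _ _
    rw [Fintype.prod_empty, one_def]
    exact cls_congr (isEmptyAlg A)
  | succ n ih =>
    intro A _ _ _
    rw [Fin.prod_univ_succ, ← ih fun i => A i.succ, ← cls_mul]
    exact cls_congr (succAlg A)

theorem cls_pi {ι : Type*} [Fintype ι] (A : ι → Type v) [∀ i, Ring (A i)] [∀ i, Algebra k (A i)]
    [∀ i, Module.Finite k (A i)] : cls (k := k) (⨂[k] i, A i) = ∏ i, cls (k := k) (A i) := by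
  rw [cls_congr (reindexAlg A (Fintype.equivFin ι)),
    cls_pi_fin fun j => A ((Fintype.equivFin ι).symm j),
    Equiv.prod_comp (Fintype.equivFin ι).symm fun i => cls (k := k) (A i)]

theorem cls_tpow (A : Type v) [Ring A] [Algebra k A] [Module.Finite k A] (e : ℕ) :
    cls (k := k) (CSAGal.tpow k A e) = cls A ^ e := by
  rw [cls_pi_fin]
  simp

section Splits

variable {A : Type v} [Ring A] [Algebra k A]

theorem finite_of_splits (h : Curves.Splits k A k) : Module.Finite k A := (CSALib.csa_of_splits h).2.2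

theorem cls_eq_one_of_splits [Module.Finite k A] (h : Curves.Splits k A k) : cls (k := k) A = 1 := by
  obtain ⟨n, hn, ⟨e⟩⟩ := h
  exact cls_of_equiv_matrix hn ((Algebra.TensorProduct.lid k A).symm.trans e)

theorem splits_of_cls_eq_one [Algebra.IsCentral k A] [IsSimpleRing A] [Module.Finite k A]
    (h : cls (k := k) A = 1) : Curves.Splits k A k := by
  obtain ⟨a, b, ha, hb, ⟨e⟩⟩ := cls_eq_iff.1 h
  exact CSALib.splits_of_similar k ha hb e
    ⟨1, one_ne_zero, ⟨(Algebra.TensorProduct.lid k k).trans
      (AlgEquiv.ofBijective (Algebra.ofId k (Matrix (Fin 1) (Fin 1) k))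
        ⟨(algebraMap k _).injective, fun M => ⟨M 0 0, by
          ext i j
          simp [Matrix.algebraMap_matrix_apply, Subsingleton.elim i 0, Subsingleton.elim j 0]⟩⟩)⟩⟩

theorem splits_iff_cls [Algebra.IsCentral k A] [IsSimpleRing A] [Module.Finite k A] :
    Curves.Splits k A k ↔ cls (k := k) A = 1 :=
  ⟨cls_eq_one_of_splits, splits_of_cls_eq_one⟩

end Splits

section BaseChange

variable (K : Type w) [Field K] [Algebra k K]

theorem Sim.baseChange {A : Type v} [Ring A] [Algebra k A] {B : Type x} [Ring B] [Algebra k B]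
    (h : Sim k A B) : Sim K (K ⊗[k] A) (K ⊗[k] B) := by
  obtain ⟨a, b, ha, hb, ⟨e⟩⟩ := h
  exact ⟨a, b, ha, hb, ⟨(CSALib.matrixBaseChange K A a).symm.trans
    ((Algebra.TensorProduct.congr AlgEquiv.refl e).trans (CSALib.matrixBaseChange K B b))⟩⟩

/-- Base change of a tensor product of algebras. -/
noncomputable def distribAlg (A : Type v) [Ring A] [Algebra k A] (B : Type x) [Ring B] [Algebra k B] :
    K ⊗[k] (A ⊗[k] B) ≃ₐ[K] (K ⊗[k] A) ⊗[K] (K ⊗[k] B) :=
  AlgEquiv.ofLinearEquiv (TensorProduct.AlgebraTensorModule.distribBaseChange k K A B)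
    (by simp [Algebra.TensorProduct.one_def, TensorProduct.AlgebraTensorModule.distribBaseChange])
    (by
      intro x y
      induction x using TensorProduct.induction_on with
      | zero => simp
      | add p q hp hq => simp only [add_mul, map_add, hp, hq]
      | tmul s u =>
        induction y using TensorProduct.induction_on with
        | zero => simp
        | add p q hp hq => simp only [mul_add, map_add, hp, hq]
        | tmul s' u' =>
          rw [Algebra.TensorProduct.tmul_mul_tmul]
          induction u using TensorProduct.induction_on with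
          | zero => simp
          | add p q hp hq => simp only [add_mul, TensorProduct.tmul_add, map_add, hp, hq]
          | tmul a b =>
            induction u' using TensorProduct.induction_on with
            | zero => simp
            | add p q hp hq => simp only [mul_add, TensorProduct.tmul_add, map_add, hp, hq]
            | tmul a' b' => simp [TensorProduct.AlgebraTensorModule.distribBaseChange])

/-- Extension of scalars on similarity classes. -/
noncomputable def bc : Br k →* Br K where
  toFun := Quotient.lift (fun X => cls (k := K) (K ⊗[k] X.carrier)) fun _ _ h => cls_eq_iff.2 (h.baseChange K)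
  map_one' := by
    obtain ⟨e⟩ := (exists_small (k := k) k).choose_spec
    exact cls_congr ((Algebra.TensorProduct.congr AlgEquiv.refl e.symm).trans (Algebra.TensorProduct.rid k K K))
  map_mul' a b := by
    induction a using Quotient.inductionOn with
    | h X =>
      induction b using Quotient.inductionOn with
      | h Y => exact (cls_congr (distribAlg K X.carrier Y.carrier)).trans (cls_mul _ _)

theorem bc_cls (A : Type v) [Ring A] [Algebra k A] [Module.Finite k A] :
    bc K (cls (k := k) A) = cls (k := K) (K ⊗[k] A) := by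
  obtain ⟨e⟩ := (exists_small (k := k) A).choose_spec
  exact cls_congr (Algebra.TensorProduct.congr AlgEquiv.refl e.symm)

end BaseChange

end Groth.Agent.BrauerClassLib
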